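import Groth.Agent.L21.Mero.Zero
import Groth.Agent.L19.IdealInvertible
import Groth.Agent.L08.Cube.Inverse
import Groth.Agent.L18.AmplePull
import Groth.Agent.L20.ResDescent
import Groth.Agent.L16.HomSh.Adjunction

/-!
# The ideal of the zero scheme of a section of an invertible module
-/

set_option autoImplicit false
set_option linter.style.haveILetI false
set_option backward.isDefEq.respectTransparency false

universe u

open CategoryTheory CategoryTheory.Limits AlgebraicGeometry TopologicalSpace Opposite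
open Groth.L18.Frame (IsFrame rs ro rs_self rs_rs rs_smul ro_ro ro_self pull)
open Groth.L18.GenLoc (secOf tens tens_rs tens_smul_left tens_smul_right isFrame_tens)

noncomputable section

namespace Groth.Agent.Elliptic

variable {X : Scheme.{u}} {L : X.Modules}

open Groth.Agent.L19.IdealInvertible (io io_smul io_inj io_rs)

/-- A frame of a locally principal invertible ideal maps to a generator up to a unit. -/
theorem exists_unit_of_span_eq {R : Type*} [CommRing R] {g c : R} (hg : g ∈ nonZeroDivisors R)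
    (h : Ideal.span {g} = Ideal.span {c}) : ∃ v : R, IsUnit v ∧ v * g = c := by
  obtain ⟨v, hv⟩ := Ideal.mem_span_singleton'.1 (h.symm ▸ Ideal.mem_span_singleton_self c : c ∈ Ideal.span {g})
  obtain ⟨w, hw⟩ := Ideal.mem_span_singleton'.1 (h ▸ Ideal.mem_span_singleton_self g : g ∈ Ideal.span {c})
  refine ⟨v, IsUnit.of_mul_eq_one w ?_, hv⟩
  have h1 : (v * w - 1) * g = 0 := by
    rw [← hv] at hw
    linear_combination hw
  exact sub_eq_zero.1 ((mul_right_mem_nonZeroDivisors_eq_zero_iff hg).1 h1)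

theorem nonempty_tensor_zeroScheme (hL : PicF.IsInvertible L) (s : Coh.structureModule X ⟶ L)
    (hI : BlowUp.IsEffCartierIdeal (PicF2.zeroScheme L s)) :
    Nonempty (CohB1.tensorMod (ClSub.idealMod (PicF2.zeroScheme L s)) L ≅ Coh.structureModule X) := by
  set I := PicF2.zeroScheme L s
  set J := ClSub.idealMod I
  have hJ : PicF.IsInvertible J := (Groth.Agent.L19.IdealInvertible.isEffCartier_iff I).2 hI
  have hcov : ∀ x : X, ∃ (W : X.Opens) (e : Γ(L, W)) (m : Γ(J, W)), x ∈ W ∧ IsFrame L W e ∧ IsFrame J W m ∧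
      io I W m • e = rs L le_top (secOf s) := by
    intro x
    obtain ⟨W₁, d, hW₁, hd⟩ := Groth.L18.Frame.exists_frame hL x
    obtain ⟨W₂, μ₀, hW₂, hμ₀⟩ := Groth.L18.Frame.exists_frame hJ x
    obtain ⟨W, hW, hxW, hWle⟩ :=
      exists_isAffineOpen_mem_and_subset (x := x) (U := W₁ ⊓ W₂) ⟨hW₁, hW₂⟩
    have hle₁ : W ≤ W₁ := fun y hy => (hWle hy).1
    have hle₂ : W ≤ W₂ := fun y hy => (hWle hy).2
    have he := hd.mono hle₁
    have hμ := hμ₀.mono hle₂
    obtain ⟨c, hc⟩ := he.exists_coeff le_rfl (rs L le_top (secOf s))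
    rw [rs_self] at hc
    have hspan := Groth.L21.Mero.zeroScheme_ideal_frame hL s ⟨W, hW⟩ he hc
    set μ := rs J hle₂ μ₀
    set g := io I W μ
    have hgc : Ideal.span {g} = Ideal.span {c} := by
      rw [← hspan]
      ext a
      rw [Groth.L18.IdealModule.mem_ideal_iff I hW, Ideal.mem_span_singleton']
      constructor
      · rintro ⟨b, rfl⟩
        exact ⟨b • μ, io_smul I b μ⟩
      · rintro ⟨n, rfl⟩
        obtain ⟨b, hb⟩ := hμ.exists_coeff le_rfl n
        rw [rs_self] at hb
        exact ⟨b, by rw [← io_smul, hb]⟩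
    have hg : g ∈ nonZeroDivisors Γ(X, W) := by
      refine mem_nonZeroDivisors_iff_right.2 fun a ha => hμ.inj le_rfl ?_
      rw [rs_self]
      refine io_inj I _ ?_
      show io I W (a • μ) = io I W ((0 : Γ(X, W)) • μ)
      rw [io_smul, io_smul, zero_mul]
      exact ha
    obtain ⟨v, hv, hvg⟩ := exists_unit_of_span_eq hg hgc
    exact ⟨W, rs L hle₁ d, v • μ, hxW, he, hμ.smul_unit hv, by rw [io_smul, hvg, hc]⟩
  choose W e m hW he hm hme using hcov
  let T : ∀ i : X, Γ(CohB1.tensorMod J L, W i) := fun i => tens J L (W i) (m i) (e i)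
  have hT : ∀ i j : X, rs (CohB1.tensorMod J L) (inf_le_left : W i ⊓ W j ≤ W i) (T i) =
      rs (CohB1.tensorMod J L) (inf_le_right : W i ⊓ W j ≤ W j) (T j) := by
    intro i j
    rw [tens_rs, tens_rs]
    obtain ⟨b, hb⟩ := ((he i).mono (inf_le_left : W i ⊓ W j ≤ W i)).exists_coeff le_rfl
      (rs L (inf_le_right : W i ⊓ W j ≤ W j) (e j))
    rw [rs_self] at hb
    have h1 := congrArg (rs L (inf_le_left : W i ⊓ W j ≤ W i)) (hme i)
    have h2 := congrArg (rs L (inf_le_right : W i ⊓ W j ≤ W j)) (hme j)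
    rw [rs_smul, rs_rs] at h1 h2
    rw [← hb, smul_smul, ← h1] at h2
    have h3 : ro (inf_le_right : W i ⊓ W j ≤ W j) (io I _ (m j)) * b =
        ro (inf_le_left : W i ⊓ W j ≤ W i) (io I _ (m i)) :=
      ((he i).mono (inf_le_left : W i ⊓ W j ≤ W i)).inj le_rfl (by rw [rs_self]; exact h2)
    have h4 : rs J (inf_le_left : W i ⊓ W j ≤ W i) (m i) = b • rs J (inf_le_right : W i ⊓ W j ≤ W j) (m j) := by
      refine io_inj I _ ?_
      show io I _ (rs J _ (m i)) = io I _ (b • rs J _ (m j))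
      rw [io_smul, io_rs, io_rs, mul_comm]
      exact h3.symm
    rw [h4, ← hb, tens_smul_left, tens_smul_right]
  let OT : TopCat.Sheaf Ab.{u} X.toTopCat := ⟨(CohB1.tensorMod J L).presheaf, (CohB1.tensorMod J L).isSheaf⟩
  obtain ⟨τ, hτ, -⟩ := OT.existsUnique_gluing' W ⊤ (fun i => homOfLE le_top)
    (fun x _ => Opens.mem_iSup.2 ⟨x, hW x⟩) T fun i j => hT i j
  refine Groth.L08.Cube.nonempty_iso_of_frame_top (σ := τ)
    (IsFrame.of_cover W (fun _ => le_top) (fun x _ => Opens.mem_iSup.2 ⟨x, hW x⟩) fun i => ?_)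
  rw [show rs (CohB1.tensorMod J L) le_top τ = T i from hτ i]
  exact isFrame_tens (hm i) (he i)

/-- If the inclusion `N ⊗ J → N` factors through a section, `J` lies in the ideal of its zeros. -/
theorem le_zeroScheme_of_factor (hL : PicF.IsInvertible L) (s : Coh.structureModule X ⟶ L)
    (J : X.IdealSheafData) (γ : CohB1.tensorMod L (ClSub.idealMod J) ⟶ Coh.structureModule X)
    (hγ : γ ≫ s = Groth.L00.Tensor.tensorMap (𝟙 L) (ClSub.idealModι J) ≫ (Groth.L00.Tensor.tensorUnitRight L).hom) :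
    J ≤ PicF2.zeroScheme L s := by
  refine Scheme.IdealSheafData.le_ofIdeals_iff.2 fun V a ha => ?_
  intro m
  obtain ⟨n, hn⟩ := (Groth.L18.IdealModule.mem_ideal_iff J V.2 _).1 ha
  refine ⟨γ.app V.1 (tens L (ClSub.idealMod J) V.1 m n), ?_⟩
  have h1 := congr($(hγ).app V.1 (tens L (ClSub.idealMod J) V.1 m n))
  have h2 : (Groth.L00.Tensor.tensorUnitRight L).hom.app V.1
      ((Groth.L00.Tensor.tensorMap (𝟙 L) (ClSub.idealModι J)).app V.1 (tens L (ClSub.idealMod J) V.1 m n)) =
      (io J V.1 n) • (show Γ(L, V.1) from m) := by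
    rw [Groth.L16.HomSh.tensorMap_tens]
    exact Groth.L20.ResDescent.tensorUnitRight_app L V.1 m (io J V.1 n)
  have h3 : s.app V.1 (γ.app V.1 (tens L (ClSub.idealMod J) V.1 m n)) =
      (show Γ(X, V.1) from γ.app V.1 (tens L (ClSub.idealMod J) V.1 m n)) •
        (show Γ(L, V.1) from PicF2.secVal L s V.1) := by
    refine Eq.trans ?_ (Scheme.Modules.Hom.app_smul s _ _)
    exact congrArg (s.app V.1) (mul_one (show Γ(X, V.1) from γ.app V.1 (tens L (ClSub.idealMod J) V.1 m n))).symm
  change a • (show Γ(L, V.1) from m) = _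
  rw [← hn]
  exact h2.symm.trans (h1.symm.trans h3)

end Groth.Agent.Elliptic
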