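import Groth.Agent.L18.AmplePull
import Groth.Agent.L21.Mero.Zero
import Groth.Agent.L22.Ideal

/-!
# Zero schemes commute with pullback
-/

set_option autoImplicit false
set_option linter.style.haveILetI false
set_option backward.isDefEq.respectTransparency false

universe u

open CategoryTheory CategoryTheory.Limits AlgebraicGeometry TopologicalSpace
open Groth.L18.Frame (IsFrame rs ro rs_self rs_rs rs_smul pull)
open Groth.L18.GenLoc (secOf)

noncomputable section

namespace Groth.Agent.Elliptic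

variable {X Z : Scheme.{u}} (v : Z ⟶ X) {L : X.Modules}

theorem zeroScheme_comap (hL : PicF.IsInvertible L) (s : Coh.structureModule X ⟶ L) :
    (PicF2.zeroScheme L s).comap v =
      PicF2.zeroScheme ((Scheme.Modules.pullback v).obj L) (Groth.L18.Ample.pullHom v s) := by
  have h : ∀ z : Z, ∃ W : Z.affineOpens, z ∈ W.1 ∧
      ((PicF2.zeroScheme L s).comap v).ideal W =
        (PicF2.zeroScheme ((Scheme.Modules.pullback v).obj L) (Groth.L18.Ample.pullHom v s)).ideal W := by
    intro z
    obtain ⟨U, e, hzU, -, he⟩ := Groth.L21.Mero.exists_frame_affine hL (v z) (O := ⊤) trivial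
    obtain ⟨W₀, hW, hzW, hWU⟩ := exists_isAffineOpen_mem_and_subset (x := z) (U := v ⁻¹ᵁ U.1) hzU
    obtain ⟨a, ha⟩ := he.exists_coeff le_rfl (rs L (le_top : U.1 ≤ ⊤) (secOf s))
    rw [rs_self] at ha
    have hle : W₀ ≤ v ⁻¹ᵁ U.1 := hWU
    refine ⟨⟨W₀, hW⟩, hzW, ?_⟩
    have hc := congrArg (rs _ hle) (Groth.L18.Ample.coeff_pull v s ha)
    rw [rs_smul, rs_rs] at hc
    rw [Groth.L22.Ideals.comap_ideal v _ U ⟨W₀, hW⟩ hle, Groth.L21.Mero.zeroScheme_ideal_frame hL s U he ha,
      Ideal.map_span, Set.image_singleton,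
      Groth.L21.Mero.zeroScheme_ideal_frame (Groth.L18.Ample.isInvertible_pullback v hL) _ ⟨W₀, hW⟩
        ((he.pullback v L).mono hle) (a := ro hle (v.app U.1 a))
        (by rw [Groth.L18.Ample.pullHom, Groth.L18.GenLoc.secOf_homOfSection]; exact hc)]
    rfl
  choose W hzW hW using h
  exact Scheme.IdealSheafData.ext_of_iSup_eq_top W
    (eq_top_iff.2 fun z _ => Opens.mem_iSup.2 ⟨z, hzW z⟩) hW

end Groth.Agent.Elliptic
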