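import Groth.Agent.L26.Elliptic.DegreeOne
import Groth.Agent.L26.Pic13.TauChi
import Groth.Agent.L21.RR.BaseChange
import Groth.Prelude.Def_AbDual

/-!
# Degrees on geometric fibres
-/

set_option autoImplicit false
set_option linter.style.haveILetI false
set_option backward.isDefEq.respectTransparency false
set_option backward.isDefEq.respectTransparency.types false

universe u

open CategoryTheory CategoryTheory.Limits AlgebraicGeometry

noncomputable section

namespace Groth.Agent.Elliptic

attribute [local instance] fibOver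

variable {X S : Scheme.{u}} (q : X ⟶ S) [IsProper q] [SmoothOfRelativeDimension 1 q] [GeometricallyConnected q]
  (s : S) (Ω : Type u) [Field Ω] [Algebra (S.residueField s) Ω]

/-- The point with values in an extension of the residue field. -/
def extPt : Spec (CommRingCat.of Ω) ⟶ S :=
  Spec.map (CommRingCat.ofHom (algebraMap (S.residueField s) Ω)) ≫ S.fromSpecResidueField s

omit [IsProper q] [SmoothOfRelativeDimension 1 q] [GeometricallyConnected q] in
theorem range_extPt : Set.range (extPt s Ω).base = {s} := by
  refine Set.eq_singleton_iff_unique_mem.2 ⟨⟨IsLocalRing.closedPoint Ω, ?_⟩, ?_⟩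
  · rw [extPt, Scheme.Hom.comp_apply]
    exact Scheme.fromSpecResidueField_apply s _
  · rintro _ ⟨z, rfl⟩
    rw [extPt, Scheme.Hom.comp_apply]
    exact Scheme.fromSpecResidueField_apply s _

/-- The map from the extended fibre to the fibre. -/
def toFibre : pullback q (extPt s Ω) ⟶ q.fiber s :=
  pullback.lift (pullback.fst q (extPt s Ω))
    (pullback.snd q (extPt s Ω) ≫ Spec.map (CommRingCat.ofHom (algebraMap (S.residueField s) Ω)))
    (by rw [pullback.condition, Category.assoc]; rfl)

omit [IsProper q] [SmoothOfRelativeDimension 1 q] [GeometricallyConnected q] in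
theorem toFibre_ι : toFibre q s Ω ≫ q.fiberι s = pullback.fst q (extPt s Ω) := pullback.lift_fst _ _ _

omit [IsProper q] [SmoothOfRelativeDimension 1 q] [GeometricallyConnected q] in
theorem isPullback_toFibre : IsPullback (toFibre q s Ω) (pullback.snd q (extPt s Ω))
    (q.fiber s ↘ Spec (CommRingCat.of (S.residueField s)))
    (Spec.map (CommRingCat.ofHom (algebraMap (S.residueField s) Ω))) := by
  refine IsPullback.of_right (h₁₂ := q.fiberι s) (h₂₂ := S.fromSpecResidueField s) (v₁₃ := q) ?_
    (pullback.lift_snd _ _ _) (IsPullback.of_hasPullback q (S.fromSpecResidueField s))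
  rw [toFibre_ι]
  exact IsPullback.of_hasPullback q (extPt s Ω)

/-- Degrees may be read on extended fibres. -/
theorem deg_extended (L : X.Modules) (hL : PicF.IsInvertible L) :
    letI : (pullback q (extPt s Ω)).Over (Spec (CommRingCat.of Ω)) := ⟨pullback.snd q (extPt s Ω)⟩
    Curv2.deg Ω (pullback q (extPt s Ω)) ((Scheme.Modules.pullback (pullback.fst q (extPt s Ω))).obj L) 1 =
      Curv2.deg (S.residueField s) (q.fiber s) ((Scheme.Modules.pullback (q.fiberι s)).obj L) 1 := by
  letI : (pullback q (extPt s Ω)).Over (Spec (CommRingCat.of Ω)) := ⟨pullback.snd q (extPt s Ω)⟩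
  haveI := isProper_fibre q s
  haveI : IsProper (pullback q (extPt s Ω) ↘ Spec (CommRingCat.of Ω)) :=
    inferInstanceAs (IsProper (pullback.snd q (extPt s Ω)))
  rw [← Groth.L21.RR.deg_congr Ω ((Scheme.Modules.pullbackComp (toFibre q s Ω) (q.fiberι s)).app L ≪≫
    (Scheme.Modules.pullbackCongr (toFibre_ι q s Ω)).app L) 1]
  exact Groth.L21.RR.deg_pullback (K := Ω) (toFibre q s Ω) (isPullback_toFibre q s Ω)
    (Groth.L18.Ample.isInvertible_pullback _ hL)

/-- Modules algebraically equivalent to zero on a geometric fibre have degree zero on the fibre. -/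
theorem deg_eq_zero_of_algTrivialAt {L : X.Modules} (hL : PicF.IsInvertible L)
    (h0 : AbDual.IsAlgTrivialAt q L s) :
    Curv2.deg (S.residueField s) (q.fiber s) ((Scheme.Modules.pullback (q.fiberι s)).obj L) 1 = 0 := by
  let Ω := AlgebraicClosure (S.residueField s)
  letI : (pullback q (extPt s Ω)).Over (Spec (CommRingCat.of Ω)) := ⟨pullback.snd q (extPt s Ω)⟩
  haveI : IsProper (pullback q (extPt s Ω) ↘ Spec (CommRingCat.of Ω)) :=
    inferInstanceAs (IsProper (pullback.snd q (extPt s Ω)))
  haveI := Groth.L21.RR.isNoetherian_of_proper (X := pullback q (extPt s Ω)) Ω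
  rw [← deg_extended q s Ω L hL]
  have h1 := Groth.Agent.Pic13Tau.chiTriv_of_algEquiv Ω (h0 Ω (extPt s Ω) (range_extPt s Ω)) _
    (Groth.L16.CohClosedPush.isCoh_structure (X := pullback q (extPt s Ω)))
  rw [Groth.L03.Euler.euler_iso (Groth.L00.Tensor.tensorUnitLeft _)] at h1
  rw [Curv2.deg, h1]
  push_cast
  ring

end Groth.Agent.Elliptic
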