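import Groth.Agent.L26.Elliptic.GroupLaw
import Groth.Agent.L26.Elliptic.GeomFibre
import Groth.Agent.L26.Pic13.CurvePicZero
import Groth.Agent.L26.AbDual.Additive
import Groth.Agent.L03.SurfAdj.Tools
import Groth.Agent.L12.HypSq.Curve

/-!
# An elliptic curve is its own relative Pic⁰
-/

set_option autoImplicit false
set_option linter.style.haveILetI false
set_option linter.unusedSectionVars false
set_option backward.isDefEq.respectTransparency false
set_option backward.isDefEq.respectTransparency.types false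

universe u

open CategoryTheory CategoryTheory.Limits AlgebraicGeometry Opposite
open Groth.Agent.AbDualLib

noncomputable section

namespace Groth.Agent.Elliptic

attribute [local instance] fibOver

section AlgTrivial

variable {X S : Scheme.{u}} (q : X ⟶ S) [IsProper q] [SmoothOfRelativeDimension 1 q] [GeometricallyConnected q]

/-- Degree zero modules are algebraically equivalent to zero on an algebraically closed fibre. -/
theorem algEquiv_extPt (s : S) (Ω : Type u) [Field Ω] [IsAlgClosed Ω] [Algebra (S.residueField s) Ω]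
    {L : X.Modules} (hL : PicF.IsInvertible L)
    (h : Curv2.deg (S.residueField s) (q.fiber s) ((Scheme.Modules.pullback (q.fiberι s)).obj L) 1 = 0) :
    @Pic13.IsAlgEquivZero Ω _ (pullback q (extPt s Ω)) ⟨pullback.snd q (extPt s Ω)⟩
      ((Scheme.Modules.pullback (pullback.fst q (extPt s Ω))).obj L) := by
  let p := pullback.snd q (extPt s Ω)
  letI : (pullback q (extPt s Ω)).Over (Spec (CommRingCat.of Ω)) := ⟨p⟩
  haveI := smoothOfRelativeDimension_isStableUnderBaseChange.{u} 1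
  haveI : SmoothOfRelativeDimension 1 p := MorphismProperty.pullback_snd _ _ inferInstance
  haveI : Smooth p := SmoothOfRelativeDimension.smooth 1 p
  haveI : IsProper p := inferInstanceAs (IsProper (pullback.snd q _))
  haveI : GeometricallyConnected p := inferInstanceAs (GeometricallyConnected (pullback.snd q _))
  haveI : ConnectedSpace ↥(pullback q (extPt s Ω)) :=
    GeometricallyConnected.connectedSpace_of_subsingleton p
  haveI : Smooth (pullback q (extPt s Ω) ↘ Spec (CommRingCat.of Ω)) := ‹Smooth p›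
  haveI : IsProper (pullback q (extPt s Ω) ↘ Spec (CommRingCat.of Ω)) := ‹IsProper p›
  haveI : IsIntegral (pullback q (extPt s Ω)) :=
    Groth.L12.HypSq.isIntegral (k := Ω) (C := pullback q (extPt s Ω))
  exact Groth.Agent.CurvePicZero.algEquiv_of_deg_zero (k := Ω) (Groth.L03.SurfAdj.dim_of_relDim p 1)
    (Groth.L18.Ample.isInvertible_pullback _ hL) ((deg_extended q s Ω L hL).trans h)

/-- Degree zero modules are algebraically equivalent to zero on geometric fibres. -/
theorem algTrivialAt_of_deg_eq_zero {L : X.Modules} (hL : PicF.IsInvertible L) (s : S)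
    (h : Curv2.deg (S.residueField s) (q.fiber s) ((Scheme.Modules.pullback (q.fiberι s)).obj L) 1 = 0) :
    AbDual.IsAlgTrivialAt q L s := by
  intro Ω _ _ σ hσ
  have hs : σ.base (IsLocalRing.closedPoint Ω) = s := by
    have : σ.base (IsLocalRing.closedPoint Ω) ∈ Set.range σ.base := ⟨_, rfl⟩
    rw [hσ] at this
    exact this
  subst hs
  obtain ⟨φ, hφ⟩ : ∃ φ : S.residueField (σ (IsLocalRing.closedPoint Ω)) ⟶ CommRingCat.of Ω,
      Spec.map φ ≫ S.fromSpecResidueField _ = σ :=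
    ⟨_, Scheme.descResidueField_stalkClosedPointTo_fromSpecResidueField Ω S σ⟩
  letI : Algebra (S.residueField (σ (IsLocalRing.closedPoint Ω))) Ω := φ.hom.toAlgebra
  exact Eq.subst (motive := fun τ => @Pic13.IsAlgEquivZero Ω _ (pullback q τ) ⟨pullback.snd q τ⟩
    ((Scheme.Modules.pullback (pullback.fst q τ)).obj L)) hφ (algEquiv_extPt q _ Ω hL h)

end AlgTrivial

attribute [local instance] Groth.L08.Cube.clMonoid

variable {E S : Scheme.{u}} {f : E ⟶ S} [IsProper f] [SmoothOfRelativeDimension 1 f] [GeometricallyConnected f]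
  (hg : Genus1 f) (σ : S ⟶ E) (hσ : σ ≫ f = 𝟙 S) {T T' : Over S}

include hg in
theorem isPicZeroCl_of_fdeg {L : (PicF.XT f T).Modules} (hL : PicF.IsInvertible L)
    (hd : FDeg (PicF.XTproj f T) L 0) : AbDual.IsPicZeroCl f T (PicF.cl L) :=
  ⟨L, rfl, hL, fun t => algTrivialAt_of_deg_eq_zero _ hL t (hd.deg_eq (hg.baseChange T) t)⟩

include hg in
theorem exists_fdeg_of_isPicZeroCl {c : PicF.Cl (PicF.XT f T)} (hc : AbDual.IsPicZeroCl f T c) :
    ∃ L : (PicF.XT f T).Modules, PicF.IsInvertible L ∧ PicF.cl L = c ∧ FDeg (PicF.XTproj f T) L 0 := by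
  obtain ⟨L, hc, hL, h⟩ := hc
  exact ⟨L, hL, hc, fdeg_of_deg (hg.baseChange T) fun t => deg_eq_zero_of_algTrivialAt _ t hL (h t)⟩

/-- The class `O(P) ⊗ O(σ)⁻¹`. -/
def ptCl (P : T ⟶ Over.mk f) : (PicF.Cl (PicF.XT f T))ˣ := uI (origin T σ hσ) * (uI P)⁻¹

theorem map_ptCl (h : T' ⟶ T) (P : T ⟶ Over.mk f) :
    PicF.pullCl (PicF.XTmap f h) (ptCl σ hσ P : PicF.Cl (PicF.XT f T)) =
      (ptCl σ hσ (h ≫ P) : PicF.Cl (PicF.XT f T')) := by
  show ((Units.map (Groth.L08.Cube.pullClHom (PicF.XTmap f h)) (ptCl σ hσ P) : (PicF.Cl (PicF.XT f T'))ˣ) :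
    PicF.Cl (PicF.XT f T')) = _
  rw [ptCl, map_mul, map_inv, map_uI, map_uI, comp_origin]
  rfl

include hg in
theorem isPicZeroCl_ptCl (P : T ⟶ Over.mk f) :
    AbDual.IsPicZeroCl f T (ptCl σ hσ P : PicF.Cl (PicF.XT f T)) := by
  have hgT := hg.baseChange T
  obtain ⟨D, hD, ⟨e⟩, hd⟩ := exists_inverse_ker hgT (sec_proj P)
  have hIo := isInvertible_secIdeal (origin T σ hσ)
  have h0 := fdeg_tensor hgT hIo hD (fdeg_ker hgT (sec_proj _)) hd
  norm_num at h0
  have hc := isPicZeroCl_of_fdeg hg (Groth.L18.GenLoc.isInvertible_tensor hIo hD) h0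
  rw [ptCl, Units.val_mul, val_uI, Units.inv_eq_of_mul_eq_one_right (u := uI P) (a := PicF.cl D) (cl_congr e)]
  exact hc

section Rep

variable {P₀ : Over S} {φ₀ : ∀ T : Over S, PicF.Cl (PicF.XT f T) → (T ⟶ P₀)}
  (hP₀ : AbDual.IsRelPicZeroK Scheme.fppfPrecoverage f P₀ φ₀)

include hP₀ in
/-- Classes differing by a class from the base have the same point. -/
theorem phi_eq_of_base {x y : (PicF.Cl (PicF.XT f T))ˣ}
    (hx : AbDual.IsPicZeroCl f T (x : PicF.Cl (PicF.XT f T)))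
    (hy : AbDual.IsPicZeroCl f T (y : PicF.Cl (PicF.XT f T))) (h : x⁻¹ * y ∈ baseSub f T) :
    φ₀ T (x : PicF.Cl (PicF.XT f T)) = φ₀ T (y : PicF.Cl (PicF.XT f T)) := by
  obtain ⟨M, hM, hm⟩ := h
  choose W e hW he using fun t : T.left => Groth.L18.Frame.exists_frame hM t
  let R : Presieve T.left := Presieve.ofArrows (fun t => (W t : Scheme.{u})) fun t => (W t).ι
  let 𝒰 : T.left.OpenCover := T.left.openCoverOfIsOpenCover W
    (TopologicalSpace.IsOpenCover.mk (eq_top_iff.2 fun t _ => TopologicalSpace.Opens.mem_iSup.2 ⟨t, hW t⟩))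
  apply Over.OverMorphism.ext
  refine Scheme.Cover.hom_ext 𝒰 _ _ fun t => ?_
  let h : AbDual.ovr T (W t).ι ⟶ T := AbDual.ovrHom T (W t).ι
  suffices hh : h ≫ φ₀ T (x : PicF.Cl (PicF.XT f T)) = h ≫ φ₀ T (y : PicF.Cl (PicF.XT f T)) from
    congrArg Over.Hom.left hh
  rw [← hP₀.natural _ _ h _ hx, ← hP₀.natural _ _ h _ hy]
  refine congrArg (φ₀ _) ?_
  have htriv : PicF.pullCl (PicF.XTmap f h) ((x⁻¹ * y : (PicF.Cl (PicF.XT f T))ˣ) : PicF.Cl (PicF.XT f T)) = 1 := by
    rw [hm]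
    have hfr : Groth.L18.Frame.IsFrame ((Scheme.Modules.pullback (W t).ι).obj M) ((W t).ι ⁻¹ᵁ W t)
        (Groth.L18.Frame.pull (W t).ι M (W t) (e t)) := (he t).pullback (W t).ι M
    obtain ⟨i⟩ := Groth.L08.Cube.nonempty_iso_of_frame_top (hfr.mono (W t).ι_preimage_self.ge)
    exact cl_congr ((Scheme.Modules.pullbackComp _ _).app M ≪≫
      (Scheme.Modules.pullbackCongr (Groth.L02.Hilb.XTmap_snd f h)).app M ≪≫
      ((Scheme.Modules.pullbackComp _ _).app M).symm ≪≫
      (Scheme.Modules.pullback (PicF.XTproj f (AbDual.ovr T (W t).ι))).mapIso i ≪≫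
      Groth.L29.LocFree.pullbackUnitIso _)
  conv_rhs => rw [← mul_inv_cancel_left x y, Units.val_mul, Groth.L08.Cube.pullCl_mul, htriv, mul_one]

include hg hP₀ in
/-- The Abel morphism is an isomorphism onto the representing object. -/
theorem isIso_abel (a : Over.mk f ⟶ P₀)
    (ha : a = φ₀ (Over.mk f) (ptCl σ hσ (𝟙 (Over.mk f)) : PicF.Cl (PicF.XT f (Over.mk f)))) : IsIso a := by
  have hnat : ∀ {T : Over S} (P : T ⟶ Over.mk f), P ≫ a = φ₀ T (ptCl σ hσ P : PicF.Cl (PicF.XT f T)) := by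
    intro T P
    rw [ha, ← hP₀.natural _ _ P _ (isPicZeroCl_ptCl hg σ hσ _), map_ptCl, Category.comp_id]
  have hinj : ∀ {T : Over S} (P Q : T ⟶ Over.mk f), P ≫ a = Q ≫ a → P = Q := by
    intro T P Q h
    rw [hnat, hnat] at h
    obtain ⟨R, hR, hs⟩ := hP₀.locallyInjective T _ _ (isPicZeroCl_ptCl hg σ hσ P) (isPicZeroCl_ptCl hg σ hσ Q) h
    apply Over.OverMorphism.ext
    refine Groth.Agent.AbDualLib.hom_ext_of_mem hR fun U u hu => ?_
    have h1 := hs u hu
    rw [map_ptCl, map_ptCl] at h1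
    exact congrArg Over.Hom.left
      (aMap_injective σ hσ hg (congrArg QuotientGroup.mk (Units.ext h1)) :
        AbDual.ovrHom T u ≫ P = AbDual.ovrHom T u ≫ Q)
  obtain ⟨R, hR, hs⟩ := hP₀.locallySurjective P₀ (𝟙 P₀)
  have hpt : ∀ ⦃U : Scheme.{u}⦄ (u : U ⟶ P₀.left), R u →
      ∃ P : AbDual.ovr P₀ u ⟶ Over.mk f, P ≫ a = AbDual.ovrHom P₀ u := by
    intro U u hu
    obtain ⟨c, hc, hφ⟩ := hs u hu
    obtain ⟨L, hL, hcL, hdL⟩ := exists_fdeg_of_isPicZeroCl hg hc
    have hgT := hg.baseChange (AbDual.ovr P₀ u)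
    let o := origin (AbDual.ovr P₀ u) σ hσ
    obtain ⟨D, hD, ⟨e⟩, hdD⟩ := exists_inverse_ker hgT (sec_proj o)
    let cu := (Groth.L08.Cube.isUnit_of_isInvertibleCl ⟨L, rfl, hL⟩).unit
    have hd := fdeg_tensor hgT hL hD hdL hdD
    norm_num at hd
    obtain ⟨P, hP, -⟩ := existsUnique_point hg (Groth.L18.GenLoc.isInvertible_tensor hL hD) hd (cu * (uI o)⁻¹)
      (by rw [Units.val_mul, Units.inv_eq_of_mul_eq_one_right (u := uI o) (a := PicF.cl D) (cl_congr e)]; rfl)
    refine ⟨P, ?_⟩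
    rw [hnat, ← Category.comp_id (AbDual.ovrHom P₀ u), ← hφ, ← hcL]
    refine phi_eq_of_base hP₀ (y := cu) (isPicZeroCl_ptCl hg σ hσ P) (show AbDual.IsPicZeroCl f _ (PicF.cl L) by rw [hcL]; exact hc) ?_
    convert hP using 1
    simp [ptCl, o, mul_comm, mul_left_comm, mul_assoc]
  choose P hP using hpt
  have hsh : Presieve.IsSheafFor (CategoryTheory.yoneda.obj E) R :=
    (Presieve.isSheafFor_iff_generate R).2 (GrothendieckTopology.Subcanonical.isSheaf_of_isRepresentable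
      (J := Scheme.fppfTopology) (CategoryTheory.yoneda.obj E) _
      (Scheme.fppfPrecoverage.generate_mem_toGrothendieck hR))
  let x : Presieve.FamilyOfElements (CategoryTheory.yoneda.obj E) R := fun U u hu => (P u hu).left
  have hcomp : x.Compatible := by
    intro Y₁ Y₂ Z g₁ g₂ u₁ u₂ h₁ h₂ w
    let W := AbDual.ovr P₀ (g₁ ≫ u₁)
    let k₁ : W ⟶ AbDual.ovr P₀ u₁ := Over.homMk g₁ (Category.assoc _ _ _).symm
    let k₂ : W ⟶ AbDual.ovr P₀ u₂ := Over.homMk g₂ ((Category.assoc _ _ _).symm.trans (congrArg (· ≫ P₀.hom) w.symm))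
    refine congrArg Over.Hom.left (hinj (k₁ ≫ P u₁ h₁) (k₂ ≫ P u₂ h₂) ?_)
    rw [Category.assoc, Category.assoc, hP, hP]
    exact Over.OverMorphism.ext w
  let b₀ : P₀.left ⟶ E := hsh.amalgamate x hcomp
  have hb : ∀ ⦃U : Scheme.{u}⦄ (u : U ⟶ P₀.left) (hu : R u), u ≫ b₀ = (P u hu).left := fun U u hu =>
    hsh.valid_glue hcomp u hu
  have hbw : b₀ ≫ f = P₀.hom := by
    refine Groth.Agent.AbDualLib.hom_ext_of_mem hR fun U u hu => ?_
    rw [← Category.assoc, hb u hu]
    exact Over.w (P u hu)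
  let b : P₀ ⟶ Over.mk f := Over.homMk b₀ hbw
  have h1 : b ≫ a = 𝟙 P₀ := by
    apply Over.OverMorphism.ext
    refine Groth.Agent.AbDualLib.hom_ext_of_mem hR fun U u hu => ?_
    rw [Over.comp_left, ← Category.assoc]
    show (u ≫ b₀) ≫ a.left = u ≫ (𝟙 P₀ : P₀ ⟶ P₀).left
    rw [hb u hu, Over.id_left, Category.comp_id]
    exact congrArg Over.Hom.left (hP u hu)
  exact ⟨b, hinj _ _ (by rw [Category.assoc, h1, Category.comp_id, Category.id_comp]), h1⟩

end Rep

end Groth.Agent.Elliptic
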