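import Groth.Agent.L26.Elliptic.DegreeOne

/-!
# Fibre degrees of inverses
-/

set_option autoImplicit false
set_option linter.style.haveILetI false
set_option backward.isDefEq.respectTransparency false
set_option backward.isDefEq.respectTransparency.types false

universe u

open CategoryTheory CategoryTheory.Limits AlgebraicGeometry

noncomputable section

namespace Groth.Agent.Elliptic

attribute [local instance] fibOver

variable {E S : Scheme.{u}} {f : E ⟶ S} [IsProper f] [SmoothOfRelativeDimension 1 f] [GeometricallyConnected f]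

theorem fdeg_inverse (hg : Genus1 f) {A D : E.Modules} {a : ℤ} (hA : PicF.IsInvertible A)
    (hD : PicF.IsInvertible D) (e : CohB1.tensorMod A D ≅ Coh.structureModule E) (h : FDeg f A a) :
    FDeg f D (-a) := by
  refine fdeg_of_deg hg fun s => ?_
  haveI := isProper_fibre f s
  haveI := isIntegral_fibre f s
  have h2 := Groth.L21.Duality.deg_tensor (k := S.residueField s) (dim_fibre f s)
    (Groth.L18.Ample.isInvertible_pullback (f.fiberι s) hA)
    (Groth.L18.Ample.isInvertible_pullback (f.fiberι s) hD)
  rw [Groth.L21.RR.deg_congr (S.residueField s) (Groth.L29.DC.PullTensor.pullTensor (f.fiberι s) _ D ≪≫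
      (Scheme.Modules.pullback (f.fiberι s)).mapIso e ≪≫ Groth.L29.LocFree.pullbackUnitIso _) 1,
    Groth.L22.CurveDeg.deg_structure, h.deg_eq hg s] at h2
  linarith

/-- The inverse of the ideal of a section has degree one. -/
theorem exists_inverse_ker (hg : Genus1 f) {P : S ⟶ E} (hP : P ≫ f = 𝟙 S) :
    ∃ D : E.Modules, PicF.IsInvertible D ∧
      Nonempty (CohB1.tensorMod (ClSub.idealMod P.ker) D ≅ Coh.structureModule E) ∧ FDeg f D 1 := by
  obtain ⟨D, hD, ⟨e⟩⟩ := Groth.L08.Cube.exists_inverse (isInvertible_ker (f := f) hP)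
  have h := fdeg_inverse hg (isInvertible_ker (f := f) hP) hD e (fdeg_ker hg hP)
  rw [neg_neg] at h
  exact ⟨D, hD, ⟨e⟩, h⟩

end Groth.Agent.Elliptic
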