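import Groth.Agent.L26.Elliptic.BaseChange
import Groth.Agent.L26.Elliptic.FibreDeg
import Groth.Agent.L08.Cube.RelNPull
import Mathlib.CategoryTheory.Monoidal.Cartesian.CommGrp_

/-!
# The group law on a family of genus one curves with a section
-/

set_option autoImplicit false
set_option linter.style.haveILetI false
set_option linter.unusedSectionVars false
set_option backward.isDefEq.respectTransparency false
set_option backward.isDefEq.respectTransparency.types false

universe u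

open CategoryTheory CategoryTheory.Limits AlgebraicGeometry Opposite
open Groth.Agent.AbDualLib

noncomputable section

namespace Groth.Agent.Elliptic

attribute [local instance] Groth.L08.Cube.clMonoid

variable {E S : Scheme.{u}} {f : E ⟶ S} [IsProper f] [SmoothOfRelativeDimension 1 f] [GeometricallyConnected f]

variable {T T' : Over S}

/-- The section of `E_T` defined by a point. -/
def sec (P : T ⟶ Over.mk f) : T.left ⟶ PicF.XT f T :=
  pullback.lift P.left (𝟙 T.left) ((Over.w P).trans (Category.id_comp T.hom).symm)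

theorem sec_proj (P : T ⟶ Over.mk f) : sec P ≫ PicF.XTproj f T = 𝟙 T.left := pullback.lift_snd _ _ _

theorem sec_injective {P Q : T ⟶ Over.mk f} (h : sec P = sec Q) : P = Q := by
  apply Over.OverMorphism.ext
  have h1 := congrArg (· ≫ pullback.fst f T.hom) h
  simpa [sec] using h1

/-- The point defined by a section of `E_T`. -/
def ptOf (R : T.left ⟶ PicF.XT f T) (hR : R ≫ PicF.XTproj f T = 𝟙 T.left) : T ⟶ Over.mk f :=
  Over.homMk (R ≫ pullback.fst f T.hom) (by
    show (R ≫ pullback.fst f T.hom) ≫ f = T.hom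
    rw [Category.assoc, pullback.condition, ← Category.assoc]
    exact (congrArg (· ≫ T.hom) hR).trans (Category.id_comp _))

theorem sec_ptOf (R : T.left ⟶ PicF.XT f T) (hR : R ≫ PicF.XTproj f T = 𝟙 T.left) : sec (ptOf R hR) = R := by
  refine pullback.hom_ext (pullback.lift_fst _ _ _) ?_
  exact (pullback.lift_snd _ _ _).trans hR.symm

theorem sec_comp (h : T' ⟶ T) (P : T ⟶ Over.mk f) : sec (h ≫ P) ≫ PicF.XTmap f h = h.left ≫ sec P := by
  apply pullback.hom_ext <;> simp [sec, PicF.XTmap]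
  exact Category.id_comp h.left

theorem isInvertible_secIdeal (P : T ⟶ Over.mk f) : PicF.IsInvertible (ClSub.idealMod (sec P).ker) :=
  isInvertible_ker (f := PicF.XTproj f T) (sec_proj P)

/-- The class of the ideal of a point. -/
def uI (P : T ⟶ Over.mk f) : (PicF.Cl (PicF.XT f T))ˣ :=
  (Groth.L08.Cube.isUnit_of_isInvertibleCl ⟨_, rfl, isInvertible_secIdeal P⟩).unit

theorem val_uI (P : T ⟶ Over.mk f) : (uI P : PicF.Cl (PicF.XT f T)) = PicF.cl (ClSub.idealMod (sec P).ker) :=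
  rfl

theorem map_uI (h : T' ⟶ T) (P : T ⟶ Over.mk f) :
    Units.map (Groth.L08.Cube.pullClHom (PicF.XTmap f h)) (uI P) = uI (h ≫ P) := by
  refine Units.ext ?_
  show PicF.pullCl (PicF.XTmap f h) (PicF.cl (ClSub.idealMod (sec P).ker)) = _
  haveI := isClosedImmersion_section (f := PicF.XTproj f T) (sec_proj P)
  have hc : (sec P).ker.comap (PicF.XTmap f h) = (sec (h ≫ P)).ker :=
    Groth.L02.Hilb.ker_section_comap (Groth.L02.Hilb.isPullback_XTmap f h) (sec P) (sec_proj P)
      (sec (h ≫ P)) (sec_proj _) (sec_comp h P)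
  obtain ⟨α, -, hα, -⟩ := Groth.L07.PrinParts.exists_idealMap (PicF.XTmap f h) (sec P).ker _ hc.symm
  haveI := hα
  haveI := Groth.L02.Canon.DescInvertible.isIso_of_epi_invertible α
    (Groth.L18.Ample.isInvertible_pullback _ (isInvertible_secIdeal P)) (isInvertible_secIdeal _)
  exact cl_congr (asIso α)

variable (f T) in
/-- The classes of modules pulled back from the base. -/
def baseSub : Subgroup (PicF.Cl (PicF.XT f T))ˣ where
  carrier := {x | ∃ M : T.left.Modules, PicF.IsInvertible M ∧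
    (x : PicF.Cl (PicF.XT f T)) = PicF.cl ((Scheme.Modules.pullback (PicF.XTproj f T)).obj M)}
  one_mem' := ⟨_, Groth.L18.Ample.isInvertible_structureModule _,
    (cl_congr (Groth.L29.LocFree.pullbackUnitIso _)).symm⟩
  mul_mem' := by
    rintro x y ⟨M, hM, hx⟩ ⟨N, hN, hy⟩
    refine ⟨CohB1.tensorMod M N, Groth.L18.GenLoc.isInvertible_tensor hM hN, ?_⟩
    rw [Units.val_mul, hx, hy]
    exact cl_congr (Groth.L29.DC.PullTensor.pullTensor _ M N)
  inv_mem' := by
    rintro x ⟨M, hM, hx⟩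
    obtain ⟨N, hN, ⟨e⟩⟩ := Groth.L08.Cube.exists_inverse hM
    refine ⟨N, hN, Units.inv_eq_of_mul_eq_one_right ?_⟩
    rw [hx]
    exact cl_congr (Groth.L29.DC.PullTensor.pullTensor _ M N ≪≫ (Scheme.Modules.pullback _).mapIso e ≪≫
      Groth.L29.LocFree.pullbackUnitIso _)

theorem map_baseSub (h : T' ⟶ T) :
    baseSub f T ≤ (baseSub f T').comap (Units.map (Groth.L08.Cube.pullClHom (PicF.XTmap f h))) := by
  rintro x ⟨M, hM, hx⟩
  refine ⟨(Scheme.Modules.pullback h.left).obj M, Groth.L18.Ample.isInvertible_pullback _ hM, ?_⟩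
  show PicF.pullCl (PicF.XTmap f h) (x : PicF.Cl (PicF.XT f T)) = _
  rw [hx]
  exact cl_congr ((Scheme.Modules.pullbackComp _ _).app M ≪≫
    (Scheme.Modules.pullbackCongr (Groth.L02.Hilb.XTmap_snd f h)).app M ≪≫
    ((Scheme.Modules.pullbackComp _ _).app M).symm)

/-- A fibrewise degree one class is the inverse of the ideal of exactly one point, up to the base. -/
theorem existsUnique_point (hg : Genus1 f) {L : (PicF.XT f T).Modules} (hL : PicF.IsInvertible L)
    (hd : FDeg (PicF.XTproj f T) L 1) (x : (PicF.Cl (PicF.XT f T))ˣ)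
    (hx : (x : PicF.Cl (PicF.XT f T)) = PicF.cl L) :
    ∃! R : T ⟶ Over.mk f, x * uI R ∈ baseSub f T := by
  have key : ∀ R : T ⟶ Over.mk f, x * uI R ∈ baseSub f T ↔ ∃ M : T.left.Modules, PicF.IsInvertible M ∧
      Nonempty (CohB1.tensorMod L (ClSub.idealMod (sec R).ker) ≅
        (Scheme.Modules.pullback (PicF.XTproj f T)).obj M) := fun R => by
    refine exists_congr fun M => and_congr_right fun _ => ?_
    rw [Units.val_mul, hx, val_uI, ← PicGrp.cl_eq_cl_iff]
    rfl
  obtain ⟨R, ⟨hR, hR'⟩, huniq⟩ := existsUnique_section (f := PicF.XTproj f T) (hg.baseChange T) hL hd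
  refine ⟨ptOf R hR, (key _).2 (by rw [sec_ptOf]; exact hR'), fun Q hQ => sec_injective ?_⟩
  rw [sec_ptOf]
  exact huniq _ ⟨sec_proj Q, (key Q).1 hQ⟩

variable (σ : S ⟶ E) (hσ : σ ≫ f = 𝟙 S)

variable (T) in
/-- The zero point. -/
def origin : T ⟶ Over.mk f :=
  Over.homMk (T.hom ≫ σ) (by
    show (T.hom ≫ σ) ≫ f = T.hom
    rw [Category.assoc, hσ, Category.comp_id])

theorem sec_origin : sec (origin T σ hσ) = PicF.secT f σ hσ T := rfl

theorem comp_origin (h : T' ⟶ T) : h ≫ origin T σ hσ = origin T' σ hσ := by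
  apply Over.OverMorphism.ext
  simp [origin, Over.w_assoc]

/-- The Abel map into the classes modulo the base. -/
def aMap (P : T ⟶ Over.mk f) : (PicF.Cl (PicF.XT f T))ˣ ⧸ baseSub f T :=
  QuotientGroup.mk (uI (origin T σ hσ) * (uI P)⁻¹)

variable (hg : Genus1 f)

include hg in
theorem aMap_injective : Function.Injective (aMap σ hσ (T := T)) := by
  intro P Q h
  obtain ⟨D, hD, ⟨e⟩, hd⟩ := exists_inverse_ker (hg.baseChange T) (sec_proj P)
  have hx : (((uI P)⁻¹ : (PicF.Cl (PicF.XT f T))ˣ) : PicF.Cl (PicF.XT f T)) = PicF.cl D :=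
    Units.inv_eq_of_mul_eq_one_right (cl_congr e)
  refine (existsUnique_point hg hD hd (uI P)⁻¹ hx).unique ?_ ?_
  · rw [inv_mul_cancel]
    exact one_mem _
  · have h1 := QuotientGroup.eq.1 h
    have h2 := (baseSub f T).inv_mem h1
    convert h2 using 1
    simp [mul_comm, mul_left_comm]

include hg in
theorem exists_mul (P Q : T ⟶ Over.mk f) :
    ∃ R : T ⟶ Over.mk f, aMap σ hσ R = aMap σ hσ P * aMap σ hσ Q := by
  have hgT := hg.baseChange T
  obtain ⟨D₁, hD₁, ⟨e₁⟩, hd₁⟩ := exists_inverse_ker hgT (sec_proj P)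
  obtain ⟨D₂, hD₂, ⟨e₂⟩, hd₂⟩ := exists_inverse_ker hgT (sec_proj Q)
  let o := origin T σ hσ
  have hIo := isInvertible_secIdeal o
  have hd := fdeg_tensor hgT (Groth.L18.GenLoc.isInvertible_tensor hIo hD₁) hD₂
    (fdeg_tensor hgT hIo hD₁ (fdeg_ker hgT (sec_proj o)) hd₁) hd₂
  norm_num at hd
  obtain ⟨R, hR, -⟩ := existsUnique_point hg
    (Groth.L18.GenLoc.isInvertible_tensor (Groth.L18.GenLoc.isInvertible_tensor hIo hD₁) hD₂) hd
    (uI o * (uI P)⁻¹ * (uI Q)⁻¹)
    (by rw [Units.val_mul, Units.val_mul, val_uI, Units.inv_eq_of_mul_eq_one_right (u := uI P) (a := PicF.cl D₁) (cl_congr e₁),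
      Units.inv_eq_of_mul_eq_one_right (u := uI Q) (a := PicF.cl D₂) (cl_congr e₂)]; rfl)
  refine ⟨R, ?_⟩
  rw [aMap, aMap, aMap, ← QuotientGroup.mk_mul, QuotientGroup.eq]
  convert hR using 1
  simp only [o, mul_inv_rev, inv_inv]
  simp [mul_comm, mul_left_comm, mul_assoc]

include hg in
theorem exists_inv (P : T ⟶ Over.mk f) : ∃ R : T ⟶ Over.mk f, aMap σ hσ R = (aMap σ hσ P)⁻¹ := by
  have hgT := hg.baseChange T
  let o := origin T σ hσ
  obtain ⟨D, hD, ⟨e⟩, hd₀⟩ := exists_inverse_ker hgT (sec_proj o)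
  have hIP := isInvertible_secIdeal P
  have hd := fdeg_tensor hgT (Groth.L18.GenLoc.isInvertible_tensor hD hD) hIP
    (fdeg_tensor hgT hD hD hd₀ hd₀) (fdeg_ker hgT (sec_proj P))
  norm_num at hd
  obtain ⟨R, hR, -⟩ := existsUnique_point hg
    (Groth.L18.GenLoc.isInvertible_tensor (Groth.L18.GenLoc.isInvertible_tensor hD hD) hIP) hd
    ((uI o)⁻¹ * (uI o)⁻¹ * uI P)
    (by rw [Units.val_mul, Units.val_mul, val_uI, Units.inv_eq_of_mul_eq_one_right (u := uI o) (a := PicF.cl D) (cl_congr e)]; rfl)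
  refine ⟨R, ?_⟩
  rw [aMap, aMap, ← QuotientGroup.mk_inv, QuotientGroup.eq]
  convert hR using 1
  simp only [o, mul_inv_rev, inv_inv]
  simp [mul_comm, mul_left_comm, mul_assoc]

theorem aMap_origin : aMap σ hσ (origin T σ hσ) = 1 := by
  rw [aMap, mul_inv_cancel]
  rfl

variable (T) in
/-- The image of the Abel map. -/
def ptsSub : Subgroup ((PicF.Cl (PicF.XT f T))ˣ ⧸ baseSub f T) where
  carrier := Set.range (aMap σ hσ (T := T))
  one_mem' := ⟨_, aMap_origin σ hσ⟩
  mul_mem' := by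
    rintro _ _ ⟨P, rfl⟩ ⟨Q, rfl⟩
    exact exists_mul σ hσ hg P Q
  inv_mem' := by
    rintro _ ⟨P, rfl⟩
    exact exists_inv σ hσ hg P

/-- The group of points. -/
def ptsEquiv : (T ⟶ Over.mk f) ≃ ptsSub T σ hσ hg :=
  Equiv.ofInjective _ (aMap_injective σ hσ hg)

/-- The group structure on the points. -/
@[reducible] def ptsGroup : CommGroup (T ⟶ Over.mk f) := (ptsEquiv σ hσ hg).commGroup

theorem aMap_mul (P Q : T ⟶ Over.mk f) :
    letI := ptsGroup σ hσ hg (T := T)
    aMap σ hσ (P * Q) = aMap σ hσ P * aMap σ hσ Q := by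
  letI := ptsGroup σ hσ hg (T := T)
  have h := ((ptsEquiv σ hσ hg (T := T))).apply_symm_apply (ptsEquiv σ hσ hg P * ptsEquiv σ hσ hg Q)
  exact congrArg Subtype.val h

theorem map_aMap (h : T' ⟶ T) (P : T ⟶ Over.mk f) :
    aMap σ hσ (h ≫ P) = QuotientGroup.map _ _ (Units.map (Groth.L08.Cube.pullClHom (PicF.XTmap f h)))
      (map_baseSub h) (aMap σ hσ P) := by
  rw [aMap, aMap, QuotientGroup.map_mk, map_mul, map_inv, map_uI, map_uI, comp_origin]

theorem comp_mul (h : T' ⟶ T) (P Q : T ⟶ Over.mk f) :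
    letI := ptsGroup σ hσ hg (T := T)
    letI := ptsGroup σ hσ hg (T := T')
    h ≫ (P * Q) = (h ≫ P) * (h ≫ Q) := by
  letI := ptsGroup σ hσ hg (T := T)
  letI := ptsGroup σ hσ hg (T := T')
  refine aMap_injective σ hσ hg ?_
  rw [aMap_mul, map_aMap, aMap_mul, map_mul, ← map_aMap, ← map_aMap]

/-- The functor of points. -/
def ptsFunctor : (Over S)ᵒᵖ ⥤ CommGrpCat.{u} where
  obj T := @CommGrpCat.of (T.unop ⟶ Over.mk f) (ptsGroup σ hσ hg)
  map {A B} h :=
    letI := ptsGroup σ hσ hg (T := A.unop)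
    letI := ptsGroup σ hσ hg (T := B.unop)
    CommGrpCat.ofHom (MonoidHom.mk' (fun P => h.unop ≫ P) (comp_mul σ hσ hg h.unop))

/-- The points of the family represent the functor. -/
def ptsRep : (ptsFunctor σ hσ hg ⋙ forget _).RepresentableBy (Over.mk f) where
  homEquiv := Equiv.refl _
  homEquiv_comp _ _ := rfl

/-- The commutative group structure. -/
@[reducible] def commGrp : CommGrpObj (Over.mk f) :=
  CommGrpObj.ofRepresentableBy _ (ptsFunctor σ hσ hg) (ptsRep σ hσ hg)

theorem one_eq : letI := (commGrp σ hσ hg).toGrpObj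
    MonObj.one = origin (MonoidalCategoryStruct.tensorUnit (Over S)) σ hσ := by
  letI := ptsGroup σ hσ hg (T := MonoidalCategoryStruct.tensorUnit (Over S))
  show (1 : MonoidalCategoryStruct.tensorUnit (Over S) ⟶ Over.mk f) = _
  refine aMap_injective σ hσ hg ?_
  rw [aMap_origin]
  have h := aMap_mul σ hσ hg (1 : MonoidalCategoryStruct.tensorUnit (Over S) ⟶ Over.mk f) 1
  rw [mul_one] at h
  exact mul_eq_left.1 h.symm

open CartesianMonoidalCategory in
theorem aMap_homMul (P Q : T ⟶ Over.mk f) :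
    letI := (commGrp σ hσ hg).toGrpObj
    aMap σ hσ (lift P Q ≫ MonObj.mul) = aMap σ hσ P * aMap σ hσ Q := by
  letI := ptsGroup σ hσ hg (T := MonoidalCategoryStruct.tensorObj (Over.mk f) (Over.mk f))
  letI := ptsGroup σ hσ hg (T := T)
  show aMap σ hσ (lift P Q ≫ (fst (Over.mk f) (Over.mk f) * snd (Over.mk f) (Over.mk f))) = _
  rw [comp_mul σ hσ hg, aMap_mul, lift_fst, lift_snd]

end Groth.Agent.Elliptic

namespace Groth.Agent.Elliptic

attribute [local instance] Groth.L08.Cube.clMonoid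

variable {E S : Scheme.{u}} {f : E ⟶ S} [IsProper f] [SmoothOfRelativeDimension 1 f] [GeometricallyConnected f]
  (σ : S ⟶ E) (hσ : σ ≫ f = 𝟙 S) {T : Over S}

/-- The relation defining the group law. -/
theorem aMap_eq_mul_iff (P Q R : T ⟶ Over.mk f) :
    aMap σ hσ R = aMap σ hσ P * aMap σ hσ Q ↔ ∃ M : T.left.Modules, PicF.IsInvertible M ∧
      Nonempty (CohB1.tensorMod (ClSub.idealMod (sec P).ker) (ClSub.idealMod (sec Q).ker) ≅
        CohB1.tensorMod (CohB1.tensorMod (ClSub.idealMod (sec R).ker) (ClSub.idealMod (PicF.secT f σ hσ T).ker))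
          ((Scheme.Modules.pullback (PicF.XTproj f T)).obj M)) := by
  have h0 : aMap σ hσ R = aMap σ hσ P * aMap σ hσ Q ↔
      uI P * uI Q * (uI R * uI (origin T σ hσ))⁻¹ ∈ baseSub f T := by
    rw [aMap, aMap, aMap, ← QuotientGroup.mk_mul, QuotientGroup.eq, ← (baseSub f T).inv_mem_iff]
    refine iff_of_eq (congrArg (· ∈ baseSub f T) ?_)
    simp only [mul_inv_rev, inv_inv]
    simp [mul_comm, mul_left_comm, mul_assoc]
  rw [h0]
  refine exists_congr fun M => and_congr_right fun hM => ?_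
  rw [← PicGrp.cl_eq_cl_iff]
  obtain ⟨N, hN, ⟨e⟩⟩ := Groth.L08.Cube.exists_inverse (Groth.L18.Ample.isInvertible_pullback (PicF.XTproj f T) hM)
  let u : (PicF.Cl (PicF.XT f T))ˣ := Units.mkOfMulEqOne
    (PicF.cl ((Scheme.Modules.pullback (PicF.XTproj f T)).obj M)) (PicF.cl N) (cl_congr e)
  show ((uI P * uI Q * (uI R * uI (origin T σ hσ))⁻¹ : (PicF.Cl (PicF.XT f T))ˣ) : PicF.Cl (PicF.XT f T)) =
    (u : PicF.Cl (PicF.XT f T)) ↔
    ((uI P * uI Q : (PicF.Cl (PicF.XT f T))ˣ) : PicF.Cl (PicF.XT f T)) =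
      ((uI R * uI (origin T σ hσ) * u : (PicF.Cl (PicF.XT f T))ˣ) : PicF.Cl (PicF.XT f T))
  rw [Units.val_inj, Units.val_inj, mul_inv_eq_iff_eq_mul, mul_comm u]

end Groth.Agent.Elliptic
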