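import Groth.Agent.L26.Elliptic.GroupLaw
import Groth.Agent.L21.SmoothCurveDim
import Groth.Agent.L26.AV.SmoothField

/-!
# Genus one curves with a point over a field
-/

set_option autoImplicit false
set_option linter.style.haveILetI false
set_option backward.isDefEq.respectTransparency false
set_option backward.isDefEq.respectTransparency.types false

universe u

open CategoryTheory CategoryTheory.Limits AlgebraicGeometry MonoidalCategory

noncomputable section

namespace Groth.Agent.Elliptic

variable {K : Type u} [Field K] {X : Scheme.{u}} (p : X ⟶ Spec (CommRingCat.of K))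
  [IsProper p] [Smooth p] [GeometricallyConnected p]

theorem relDim_one_and_genus1 [IsIntegral X] (hdim : topologicalKrullDim X = 1)
    (hgenus : @Curv2.genus K _ X ⟨p⟩ = 1) : SmoothOfRelativeDimension 1 p ∧ Genus1 p := by
  letI : X.Over (Spec (CommRingCat.of K)) := ⟨p⟩
  haveI : IsProper (X ↘ Spec (CommRingCat.of K)) := ‹IsProper p›
  haveI : Smooth (X ↘ Spec (CommRingCat.of K)) := ‹Smooth p›
  haveI := Groth.L21.RR.isNoetherian_of_proper (X := X) K
  haveI : SmoothOfRelativeDimension 1 p := Groth.L21.SmoothCurve.smoothOfRelativeDimension_one p hdim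
  haveI := Groth.Agent.AV.geometricallyReduced_of_smooth p
  have h0 : Groth.L21.RR.h K 0 (Coh.structureModule X) = 1 :=
    Groth.L08.Cube.finrank_HH_zero_structure p (Groth.L08.Cube.bijective_toGlobal_of_geometric p)
  have he : Curv2.euler K X (Coh.structureModule X) = 0 := by
    rw [Groth.L21.RR.euler_eq K hdim.le, h0, show Groth.L21.RR.h K 1 (Coh.structureModule X) = 1 from hgenus]
    rfl
  refine ⟨inferInstance, fun s => ?_⟩
  rw [eulerLE_eq p s]
  let S := Spec (CommRingCat.of K)
  letI : (p.fiber s).Over (Spec (CommRingCat.of (S.residueField s))) := fibOver p s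
  letI : Algebra K (S.residueField s) := (Spec.preimage (S.fromSpecResidueField s)).hom.toAlgebra
  have hsq : IsPullback (p.fiberι s) (p.fiber s ↘ Spec (CommRingCat.of (S.residueField s)))
      (X ↘ Spec (CommRingCat.of K)) (Spec.map (CommRingCat.ofHom (algebraMap K (S.residueField s)))) := by
    rw [show CommRingCat.ofHom (algebraMap K (S.residueField s)) = Spec.preimage (S.fromSpecResidueField s) from rfl,
      Spec.map_preimage]
    exact IsPullback.of_hasPullback p (S.fromSpecResidueField s)
  rw [← Groth.L21.RR.euler_congr (S.residueField s) (Groth.L29.LocFree.pullbackUnitIso (p.fiberι s))]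
  exact (Groth.L21.RR.euler_pullback (p.fiberι s) hsq (Groth.L16.CohClosedPush.isCoh_structure (X := X))).trans he

/-- A genus one curve with a point is a commutative group. -/
theorem exists_commGrpObj [IsIntegral X] (hdim : topologicalKrullDim X = 1)
    (hgenus : @Curv2.genus K _ X ⟨p⟩ = 1) (o : 𝟙_ (Over (Spec (CommRingCat.of K))) ⟶ Over.mk p) :
    ∃ G : GrpObj (Over.mk p), @MonObj.one _ _ _ (Over.mk p) G.toMonObj = o ∧
      @IsCommMonObj _ _ _ _ (Over.mk p) G.toMonObj := by
  obtain ⟨hsm, hg⟩ := relDim_one_and_genus1 p hdim hgenus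
  haveI := hsm
  have hσ : o.left ≫ p = 𝟙 _ := Over.w o
  refine ⟨(commGrp o.left hσ hg).toGrpObj, ?_, (commGrp o.left hσ hg).toIsCommMonObj⟩
  rw [one_eq o.left hσ hg]
  apply Over.OverMorphism.ext
  exact Category.id_comp _

end Groth.Agent.Elliptic
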