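import Groth.Agent.L02.RelCartier.CurveRel
import Groth.Agent.L03.SurfAdj.Tools
import Groth.Agent.L26.AV.SmoothField
import Groth.Agent.L22.SchemeDim
import Groth.Agent.L12.HypSq.Curve

/-!
# Smooth families with one dimensional connected fibres have relative dimension one
-/

set_option autoImplicit false
set_option linter.style.haveILetI false
set_option backward.isDefEq.respectTransparency false

universe u

open CategoryTheory CategoryTheory.Limits AlgebraicGeometry TopologicalSpace

noncomputable section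

namespace Groth.Agent.Elliptic

variable {X S : Scheme.{u}} (f : X ⟶ S)

theorem smoothOfRelativeDimension_opens_ι {U : S.Opens} (hU : IsAffineOpen U) {V : X.Opens} (hV : IsAffineOpen V)
    (e : V ≤ f ⁻¹ᵁ U) {n : ℕ} (h : (f.appLE U V e).hom.IsStandardSmoothOfRelativeDimension n) :
    SmoothOfRelativeDimension n (V.ι ≫ f) := by
  haveI : IsAffine (V : Scheme.{u}) := hV
  refine ⟨fun z => ⟨U, hU, ⊤, isAffineOpen_top _, trivial, fun w _ => e w.2, ?_⟩⟩
  rw [← Scheme.Hom.appLE_comp_appLE V.ι f U V ⊤ e (fun w _ => w.2)]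
  haveI : IsIso (V.ι.appLE V ⊤ (fun w _ => w.2)) := by
    rw [Scheme.Opens.ι_appLE]
    haveI : IsIso (homOfLE (show V.ι ''ᵁ ⊤ ≤ V from V.ι_image_top.le)) :=
      ⟨homOfLE V.ι_image_top.ge, Subsingleton.elim _ _, Subsingleton.elim _ _⟩
    infer_instance
  exact RingHom.isStandardSmoothOfRelativeDimension_respectsIso.1 _
    (asIso (V.ι.appLE V ⊤ (fun w _ => w.2))).commRingCatIsoToRingEquiv h

/-- A smooth proper family with connected one dimensional fibres has relative dimension one. -/
theorem smoothOfRelativeDimension_one_of_fibres [IsProper f] [Smooth f] [GeometricallyConnected f]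
    (hdim : ∀ s : S, topologicalKrullDim ↥(f.fiber s) = 1) : SmoothOfRelativeDimension 1 f := by
  refine ⟨fun x => ?_⟩
  obtain ⟨U, hU, V, hV, hxV, e, h⟩ := Smooth.exists_isStandardSmooth f x
  refine ⟨U, hU, V, hV, hxV, e, ?_⟩
  obtain ⟨n, hn⟩ : ∃ n, (f.appLE U V e).hom.IsStandardSmoothOfRelativeDimension n := by
    letI := (f.appLE U V e).hom.toAlgebra
    obtain ⟨ι, σ, _, _, ⟨P⟩⟩ := h
    exact ⟨P.dimension, ι, σ, ‹_›, ‹_›, P, rfl⟩
  haveI := smoothOfRelativeDimension_opens_ι f hU hV e hn
  let s : S := f x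
  let K := S.residueField s
  let j := f.fiberToSpecResidueField s
  let W := (f.fiberι s) ⁻¹ᵁ V
  letI : (f.fiber s).Over (Spec (CommRingCat.of K)) := ⟨j⟩
  haveI : IsProper (f.fiber s ↘ Spec (CommRingCat.of K)) := inferInstanceAs (IsProper (pullback.snd f _))
  haveI : Smooth (f.fiber s ↘ Spec (CommRingCat.of K)) := inferInstanceAs (Smooth (pullback.snd f _))
  haveI : GeometricallyConnected j := inferInstanceAs (GeometricallyConnected (pullback.snd f _))
  haveI : ConnectedSpace ↥(f.fiber s) := GeometricallyConnected.connectedSpace_of_subsingleton j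
  haveI : IsIntegral (f.fiber s) := Groth.L12.HypSq.isIntegral (k := K) (C := f.fiber s)
  have hW : (W : Set (f.fiber s)).Nonempty := ⟨f.asFiber x, by
    show f.fiberι s (f.asFiber x) ∈ V
    rw [Scheme.Hom.fiberι_asFiber]
    exact hxV⟩
  haveI : Nonempty W := hW.to_subtype
  haveI : IsIntegral (W : Scheme.{u}) := isIntegral_of_isOpenImmersion W.ι
  have sq : IsPullback ((f.fiberι s) ∣_ V) (W.ι ≫ j) (V.ι ≫ f) (S.fromSpecResidueField s) := by
    refine IsPullback.paste_vert ?_ (IsPullback.of_hasPullback f (S.fromSpecResidueField s))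
    exact isPullback_morphismRestrict (f.fiberι s) V
  haveI : SmoothOfRelativeDimension n (W.ι ≫ j) :=
    (smoothOfRelativeDimension_isStableUnderBaseChange (n := n)).of_isPullback sq ‹_›
  haveI : LocallyOfFiniteType (f.fiber s ↘ Spec (CommRingCat.of K)) := inferInstance
  obtain ⟨m, hm, -, hmU⟩ := Groth.L22.SchemeDim.exists_dim_eq_trdeg K (f.fiber s)
  have h1 : topologicalKrullDim (W : Scheme.{u}) = (n : ℕ) :=
    Groth.L03.SurfAdj.dim_of_relDim (k := K) (W.ι ≫ j) n
  have h2 : topologicalKrullDim (W : Scheme.{u}) = (m : ℕ) := hmU W hW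
  have h3 := (h2.symm.trans h1)
  rw [← hm, hdim s] at h3
  obtain rfl : n = 1 := by exact_mod_cast h3.symm
  exact hn

end Groth.Agent.Elliptic
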