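/-
Automorphisms of elliptic curves fixing a large finite subscheme.
-/
import Groth.Agent.L26.AV.DegreeForm
import Groth.Agent.L26.KL.RankScheme
import Groth.Agent.L26.Poincare.Product

/-!
# An automorphism of an elliptic curve fixing more than four points is the identity

By the parallelogram law the difference of an automorphism and the identity has degree at most four.
-/

set_option autoImplicit false
set_option linter.style.haveILetI false
set_option linter.unusedSectionVars false
set_option backward.isDefEq.respectTransparency false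

universe u

open CategoryTheory CategoryTheory.Limits MonoidalCategory CartesianMonoidalCategory AlgebraicGeometry
open scoped MonObj

noncomputable section

namespace Groth.Agent.Elliptic.AutFix

open Groth.Agent.AV DegreeForm InterPic

attribute [local instance] Groth.L08.Cube.clMonoid InterPic.picLaw
attribute [local instance] DegreeForm.overA

/-- A closed subscheme of a finite scheme has smaller rank. -/
theorem finrank_le {k : Type u} [Field k] {A B : Over (Spec (CommRingCat.of k))} (j : A ⟶ B) [IsClosedImmersion j.left] [IsFinite A.hom] [IsFinite B.hom]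
    (s : ↥(Spec (CommRingCat.of k))) : A.hom.finrank s ≤ B.hom.finrank s := by
  rw [Groth.Agent.KLRank.finrank_hom_eq A, Groth.Agent.KLRank.finrank_hom_eq B]
  letI := Groth.Agent.KLRank.gamma A
  letI := Groth.Agent.KLRank.gamma B
  haveI : Module.Finite k Γ(B.left, ⊤) := Groth.Agent.KLRank.finite_al B
  haveI : IsAffine B.left := Groth.Agent.KLRank.isAffine_of_finite B
  have hs : Function.Surjective j.left.appTop := by
    exact (IsClosedImmersion.isAffine_surjective_of_isAffine (f := j.left)).2
  let φ : Γ(B.left, ⊤) →ₗ[k] Γ(A.left, ⊤) :=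
    { toFun := fun x => j.left.appTop x
      map_add' := fun x y => map_add _ x y
      map_smul' := fun c x => by
        simp only [Algebra.smul_def, map_mul, RingHom.id_apply]
        congr 1
        show (((Scheme.ΓSpecIso (CommRingCat.of k)).inv ≫ B.hom.appTop) ≫ j.left.appTop) c =
          ((Scheme.ΓSpecIso (CommRingCat.of k)).inv ≫ A.hom.appTop) c
        rw [Category.assoc, ← Scheme.Hom.comp_appTop, Over.w] }
  exact φ.finrank_le_finrank_of_surjective hs

variable {k : Type u} [Field k] {A B : Over (Spec (CommRingCat.of k))}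
  [GrpObj A] [IsProper A.hom] [GeometricallyIntegral A.hom]
  [GrpObj B] [IsCommMonObj B] [IsProper B.hom] [GeometricallyIntegral B.hom]
  (L : B.left.Modules) (hL : PicF.IsInvertible L)

/-- The parallelogram law for degrees in dimension one. -/
theorem deg_parallelogram (hA : topologicalKrullDim A.left = (1 : ℕ))
    (hsym : Groth.L08.Cube.pc L (𝟙 B)⁻¹ = Groth.L08.Cube.pc L (𝟙 B)) (x y : A ⟶ B) :
    deg L hL hA (x * y) + deg L hL hA (x * y⁻¹) = 2 * deg L hL hA x + 2 * deg L hL hA y := by
  haveI : IsProper (A.left ↘ Spec (CommRingCat.of k)) := inferInstanceAs (IsProper A.hom)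
  have h := F_cube L hL x y y⁻¹
  rw [mul_assoc, mul_inv_cancel, mul_one, F_inv L hL hsym, F_one, add_zero] at h
  let Φ := (inter (X := A.left) k hA.le).toLinearMap (fun _ => 0) 0
  have hΦ : ∀ φ : A ⟶ B, inter k hA.le (fun _ : Fin 1 => F L hL φ) = Φ (F L hL φ) := fun φ => by
    show _ = inter k hA.le (Function.update (fun _ : Fin 1 => 0) 0 (F L hL φ))
    congr 1
    funext i
    rw [Subsingleton.elim i 0, Function.update_self]
  simp only [deg, hΦ]
  rw [← mul_div_assoc, ← mul_div_assoc, ← add_div, ← add_div]
  congr 1
  have := congrArg Φ h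
  rw [map_add, map_add, map_add, map_add] at this
  linarith

/-- An automorphism fixing a finite subscheme of rank at least five is the identity. -/
theorem eq_id_of_fix (E : Over (Spec (CommRingCat.of k))) [GrpObj E] [IsCommMonObj E] [IsProper E.hom] [GeometricallyIntegral E.hom]
    (hE : topologicalKrullDim E.left = (1 : ℕ)) (ε : E ≅ E) [IsMonHom ε.hom]
    (G : Over (Spec (CommRingCat.of k))) (i : G ⟶ E) [IsClosedImmersion i.left] [IsFinite G.hom]
    (s : ↥(Spec (CommRingCat.of k))) (hG : 5 ≤ G.hom.finrank s) (hfix : i ≫ ε.hom = i) :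
    ε.hom = 𝟙 E := by
  haveI : IsIntegral E.left := GeometricallyIntegral.isIntegral_of_subsingleton E.hom
  haveI : IsLocallyNoetherian E.left := LocallyOfFiniteType.isLocallyNoetherian E.hom
  obtain ⟨L, hamp, hsym⟩ := Degree.exists_isAmple_symmetric E
  haveI : IsMonHom (𝟙 E)⁻¹ := by
    have h := EndAV.Hom.isMonHom_toHom (-(EndAV.Hom.of (𝟙 E)))
    rwa [EndAV.Hom.toHom_neg, EndAV.Hom.toHom_of] at h
  let d : E ⟶ E := ε.hom * (𝟙 E)⁻¹
  haveI : IsMonHom d := by
    have h := EndAV.Hom.isMonHom_toHom (EndAV.Hom.of ε.hom + EndAV.Hom.of (𝟙 E)⁻¹)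
    rwa [EndAV.Hom.toHom_add, EndAV.Hom.toHom_of, EndAV.Hom.toHom_of] at h
  have hid : i ≫ d = 1 := by
    show i ≫ (ε.hom * (𝟙 E)⁻¹) = 1
    rw [MonObj.comp_mul, hfix, GrpObj.comp_inv, Category.comp_id, mul_inv_cancel]
  suffices hd : d = 1 from mul_inv_eq_one.1 hd
  -- the degree of `d` is at most four
  have hdegle : deg L hamp.1 hE d ≤ 4 := by
    have one_deg : ∀ e : E ⟶ E, [IsMonHom e] → IsIso e → deg L hamp.1 hE e = 1 := by
      intro e _ he
      haveI : IsIso e.left := inferInstanceAs (IsIso ((Over.forget _).map e))
      rw [← deg_of_isFinite L hamp.1 hamp hE hE e inferInstance (genericPoint E.left)]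
      exact_mod_cast congrFun (Scheme.Hom.finrank_eq_one_of_isIso e.left) (genericPoint E.left)
    have hp := deg_parallelogram L hamp.1 hE hsym ε.hom (𝟙 E)
    rw [one_deg ε.hom inferInstance, one_deg (𝟙 E) inferInstance] at hp
    haveI : IsMonHom (ε.hom * 𝟙 E) := by
      have h := EndAV.Hom.isMonHom_toHom (EndAV.Hom.of ε.hom + EndAV.Hom.of (𝟙 E))
      rwa [EndAV.Hom.toHom_add, EndAV.Hom.toHom_of, EndAV.Hom.toHom_of] at h
    have h0 : 0 ≤ deg L hamp.1 hE (ε.hom * 𝟙 E) := by
      by_cases hf : IsFinite (ε.hom * 𝟙 E).left
      · rw [← deg_of_isFinite L hamp.1 hamp hE hE _ hf (genericPoint E.left)]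
        exact Nat.cast_nonneg _
      · exact (deg_of_not_isFinite L hamp.1 hamp hE hE _ hf).ge
    show deg L hamp.1 hE (ε.hom * (𝟙 E)⁻¹) ≤ 4
    linarith
  by_cases hf : IsFinite d.left
  · exfalso
    haveI := hf
    haveI : Surjective d.left := surjective_of_isFinite_of_dim_eq E E d rfl
    haveI : Flat d.left := Groth.L08.FlatHom.flat_of_surjective E E d
    let K := pullback d η[E]
    have hsq := (IsPullback.of_hasPullback d η[E]).map (Over.forget _)
    haveI : IsFinite (pullback.snd d η[E]).left := MorphismProperty.of_isPullback (P := @IsFinite) hsq hf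
    haveI : IsFinite K.hom := by
      rw [← Over.w (pullback.snd d η[E])]
      exact inferInstanceAs (IsFinite ((pullback.snd d η[E]).left ≫ 𝟙 _))
    let j : G ⟶ K := pullback.lift i (toUnit G) (by rw [hid]; rfl)
    haveI : IsClosedImmersion j.left := by
      haveI : IsClosedImmersion (j.left ≫ (pullback.fst d η[E]).left) := by
        rw [← Over.comp_left, pullback.lift_fst]; infer_instance
      haveI : IsSeparated ((pullback.fst d η[E]).left ≫ E.hom) := by rw [Over.w]; infer_instance
      haveI : IsSeparated (pullback.fst d η[E]).left := IsSeparated.of_comp _ E.hom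
      exact IsClosedImmersion.of_comp j.left (pullback.fst d η[E]).left
    have h1 := finrank_le j s
    have h2 : K.hom.finrank s = d.left.finrank ((η[E]).left s) := by
      have h := @Scheme.Hom.finrank_of_isPullback _ _ _ _ _ _ _ _ hsq
        (show Flat d.left from inferInstance) (show IsFinite d.left from inferInstance) s
      refine Eq.trans ?_ h
      rw [show K.hom = (pullback.snd d η[E]).left from
        ((Over.w (pullback.snd d η[E])).symm.trans (Category.comp_id _))]
      rfl
    have h3 := deg_of_isFinite L hamp.1 hamp hE hE d hf ((η[E]).left s)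
    rw [← h2] at h3
    have h4 : (K.hom.finrank s : ℚ) ≤ 4 := h3 ▸ hdegle
    have h5 : K.hom.finrank s ≤ 4 := by exact_mod_cast h4
    omega
  · obtain ⟨C, gC, im, p, hι, hιc, hCp, hCg, hps, hpι, hpm⟩ := exists_image d
    letI := gC
    haveI := hι
    haveI := hιc
    obtain ⟨c, -, hc⟩ := Groth.L08.GrpDim.exists_dim C
    have hc0 : c = 0 := by
      have h1 := im.left.isClosedEmbedding.isInducing.topologicalKrullDim_le
      rw [hc, hE] at h1
      have h2 : c ≤ 1 := by exact_mod_cast h1
      by_contra hne
      refine hf ?_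
      haveI : Surjective im.left := surjective_of_isFinite_of_dim_eq C E im
        (by rw [hc, hE, show c = 1 by omega])
      haveI : Surjective d.left := by rw [← hpι, Over.comp_left]; infer_instance
      haveI := locallyQuasiFinite_of_surjective_of_dim_eq E E d rfl
      haveI : IsProper (d.left ≫ E.hom) := by rw [Over.w]; infer_instance
      haveI : IsProper d.left := IsProper.of_comp _ E.hom
      exact IsFinite.of_isProper_of_locallyQuasiFinite _
    haveI : Subsingleton C.left := Groth.Agent.Poincare.Product.subsingleton_of_dim_zero C (by rw [hc, hc0]; rfl)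
    haveI : IsCommMonObj C := isCommMonObj_of_isProper_of_geometricallyIntegral C
    rw [← hpι, ← Category.id_comp im, HomFin.id_eq_one_of_subsingleton C, MonObj.one_comp im, MonObj.comp_one]

end Groth.Agent.Elliptic.AutFix
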