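import Groth.Agent.L26.Elliptic.DegreeOne
import Groth.Agent.L18.FibrePoints
import Groth.Agent.L21.RR.BaseChange

/-!
# Base change of a family of genus one curves
-/

set_option autoImplicit false
set_option linter.style.haveILetI false
set_option backward.isDefEq.respectTransparency false
set_option backward.isDefEq.respectTransparency.types false

universe u

open CategoryTheory CategoryTheory.Limits AlgebraicGeometry

noncomputable section

namespace Groth.Agent.Elliptic

attribute [local instance] fibOver

variable {E S : Scheme.{u}} {f : E ⟶ S}

instance smoothOfRelativeDimension_XTproj [SmoothOfRelativeDimension 1 f] (T : Over S) :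
    SmoothOfRelativeDimension 1 (PicF.XTproj f T) :=
  haveI := smoothOfRelativeDimension_isStableUnderBaseChange.{u} 1
  MorphismProperty.pullback_snd (P := @SmoothOfRelativeDimension 1) _ _ inferInstance

instance geometricallyConnected_XTproj [GeometricallyConnected f] (T : Over S) :
    GeometricallyConnected (PicF.XTproj f T) :=
  inferInstanceAs (GeometricallyConnected (pullback.snd f T.hom))

variable [IsProper f] [SmoothOfRelativeDimension 1 f] [GeometricallyConnected f]

/-- The Euler characteristics of the fibres are stable under base change. -/
theorem Genus1.baseChange (hg : Genus1 f) (T : Over S) : Genus1 (PicF.XTproj f T) := fun t => by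
  obtain ⟨p, hp, -⟩ := Groth.L18.FP.exists_fiberMap f (IsPullback.of_hasPullback f T.hom) t
  rw [eulerLE_eq (PicF.XTproj f T) t]
  letI : Algebra (S.residueField (T.hom t)) (T.left.residueField t) := (T.hom.residueFieldMap t).hom.toAlgebra
  haveI := isProper_fibre f (T.hom t)
  haveI := Groth.L21.RR.isNoetherian_of_proper (X := f.fiber (T.hom t)) (S.residueField (T.hom t))
  have h := Groth.L21.RR.euler_pullback (k := S.residueField (T.hom t)) (K := T.left.residueField t) p hp
    (Groth.L16.CohClosedPush.isCoh_structure (X := f.fiber (T.hom t)))
  rw [hg.euler_structure (T.hom t)] at h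
  rw [← h]
  exact (Groth.L21.RR.euler_congr (T.left.residueField t) (Groth.L29.LocFree.pullbackUnitIso p)).symm

end Groth.Agent.Elliptic
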