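import Groth.Prelude.Def_ArtFun4
import Groth.Prelude.Def_MoreMor
import Groth.Agent.L26.Elliptic.RelDim
import Groth.Agent.L26.Elliptic.BaseChange
import Groth.Agent.L20.ThickeningProps
import Groth.Agent.L23.ThickLft
import Groth.Agent.L23.SchemeFacts
import Groth.Agent.L07.SmoothFibre
import Groth.Agent.L12.ArtBasic

/-!
# Deformations of a genus one curve are families of genus one curves
-/

set_option autoImplicit false
set_option linter.style.haveILetI false
set_option linter.unusedSectionVars false
set_option backward.isDefEq.respectTransparency false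
set_option backward.isDefEq.respectTransparency.types false

universe u

open CategoryTheory CategoryTheory.Limits AlgebraicGeometry ArtFun ArtFun.Art

noncomputable section

namespace Groth.Agent.Elliptic

variable {k : Type u} [Field k] {X : Scheme.{u}} {x : X ⟶ specPt k} {A : Art k k}

theorem isFiniteOrderThickening_specRes (A : Art k k) : MoreMor.IsFiniteOrderThickening (specRes A) := by
  obtain ⟨n, hn⟩ := Groth.L12.isNilpotent_maximalIdeal A
  refine ⟨⟨IsClosedImmersion.spec_of_surjective _ A.res_surjective, ⟨fun z => ?_⟩⟩, n, ?_⟩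
  · refine ⟨IsLocalRing.closedPoint k, ?_⟩
    haveI : Subsingleton (spec A) := inferInstanceAs (Subsingleton (PrimeSpectrum A))
    exact Subsingleton.elim _ _
  · refine Scheme.IdealSheafData.ext (funext fun U => ?_)
    rw [Scheme.ker_of_isAffine, Scheme.IdealSheafData.ideal_pow, Pi.pow_apply,
      Scheme.IdealSheafData.ofIdealTop_ideal, ← Ideal.map_pow]
    let e := (Scheme.ΓSpecIso (CommRingCat.of A)).commRingCatIsoToRingEquiv
    have hle : (RingHom.ker (specRes A).appTop.hom).map e.toRingHom ≤ IsLocalRing.maximalIdeal A := by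
      rw [Ideal.map_le_iff_le_comap]
      intro z hz
      have h := congrArg (fun f => (ConcreteCategory.hom f) z)
        (Scheme.ΓSpecIso_naturality (CommRingCat.ofHom A.res.toRingHom))
      exact (A.mem_maximalIdeal_iff _).2
        (h.symm.trans ((congrArg _ (RingHom.mem_ker.1 hz)).trans (map_zero (Scheme.ΓSpecIso (CommRingCat.of k)).hom.hom)))
    have h0 : RingHom.ker (specRes A).appTop.hom ^ n = ⊥ := by
      rw [← Ideal.map_eq_bot_iff_of_injective (f := e.toRingHom) e.injective, Ideal.map_pow, eq_bot_iff]
      exact (Ideal.pow_right_mono hle n).trans hn.le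
    rw [h0, Ideal.map_bot]
    rfl

variable (ξ : DefSch X x A)

theorem isFiniteOrderThickening_i : MoreMor.IsFiniteOrderThickening ξ.i :=
  haveI := (isFiniteOrderThickening_specRes A).1.1
  ⟨Groth.L20.Thick.isThickening_of_isPullback (isFiniteOrderThickening_specRes A).1 ξ.isPullback,
    Groth.L20.Thick.isNilpotent_ker_of_isPullback (isFiniteOrderThickening_specRes A).2 ξ.isPullback⟩

theorem isProper_f [IsProper x] : IsProper ξ.f := by
  have h := isFiniteOrderThickening_specRes A
  have hi := isFiniteOrderThickening_i ξ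
  obtain ⟨_, _⟩ := h.1
  obtain ⟨_, _⟩ := hi.1
  haveI : UniversallyClosed ξ.f :=
    Groth.L20.Thick.universallyClosed_of_thickening h.1 hi.1 ξ.isPullback.w
  haveI : IsSeparated (ξ.i ≫ ξ.f) := by rw [ξ.isPullback.w]; infer_instance
  haveI : IsSeparated ξ.f := Groth.L20.Thick.isSeparated_of_comp_surjective ξ.i ξ.f
  haveI : LocallyOfFiniteType ξ.f := Groth.L23.locallyOfFiniteType_of_thick hi.2 ξ.isPullback
  constructor

theorem smooth_f [IsProper x] [Smooth x] : Smooth ξ.f := by
  haveI := isProper_f ξ
  haveI : IsLocallyNoetherian (spec A) := inferInstance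
  haveI := Groth.L23.lfp_of_lft_locallyNoetherian ξ.f
  haveI := ξ.flat
  refine Groth.L07.SmoothFibre.smooth_of_fibres ξ.f
    ((Groth.L20.Thick.forall_fibre_iff @Smooth (isFiniteOrderThickening_specRes A).1 ξ.isPullback).1 fun y =>
      inferInstanceAs (Smooth (pullback.snd x ((specPt k).fromSpecResidueField y))))

theorem geometricallyConnected_f [GeometricallyConnected x] : GeometricallyConnected ξ.f := by
  refine ⟨(geometrically_iff_forall_fiberToSpecResidueField).2 fun y => ?_⟩
  have h : ∀ y, GeometricallyConnected (ξ.f.fiberToSpecResidueField y) :=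
    (Groth.L20.Thick.forall_fibre_iff @GeometricallyConnected (isFiniteOrderThickening_specRes A).1 ξ.isPullback).1
      fun y => inferInstanceAs (GeometricallyConnected (pullback.snd x ((specPt k).fromSpecResidueField y)))
  exact (h y).geometrically_connectedSpace

theorem dim_fibre_f (s : spec A) : topologicalKrullDim ↥(ξ.f.fiber s) = topologicalKrullDim ↥X := by
  obtain ⟨_, _⟩ := (isFiniteOrderThickening_i ξ).1
  haveI : Subsingleton (spec A) := inferInstanceAs (Subsingleton (PrimeSpectrum A))
  have h₁ : IsHomeomorph ξ.i :=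
    isHomeomorph_iff_isEmbedding_surjective.2 ⟨ξ.i.isClosedEmbedding.isEmbedding, ξ.i.surjective⟩
  have h₂ : IsHomeomorph (ξ.f.fiberι s) :=
    isHomeomorph_iff_isEmbedding_surjective.2 ⟨(ξ.f.fiberι s).isEmbedding, fun z => by
      have : z ∈ Set.range (ξ.f.fiberι s) := by
        rw [ξ.f.range_fiberι s]
        exact Subsingleton.elim (ξ.f z) s
      exact this⟩
  rw [h₂.topologicalKrullDim_eq, h₁.topologicalKrullDim_eq]

theorem smoothOfRelativeDimension_f [IsProper x] [Smooth x] [GeometricallyConnected x]
    (hdim : topologicalKrullDim ↥X = 1) : SmoothOfRelativeDimension 1 ξ.f :=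
  haveI := isProper_f ξ
  haveI := smooth_f ξ
  haveI := geometricallyConnected_f ξ
  smoothOfRelativeDimension_one_of_fibres ξ.f fun s => (dim_fibre_f ξ s).trans hdim

attribute [local instance] fibOver

theorem genus1_f [IsProper x] [SmoothOfRelativeDimension 1 x] [GeometricallyConnected x]
    (hdim : topologicalKrullDim ↥X = 1) (hg : Genus1 x) : Genus1 ξ.f := fun s => by
  haveI : Smooth x := SmoothOfRelativeDimension.smooth 1 x
  haveI := isProper_f ξ
  haveI := smoothOfRelativeDimension_f ξ hdim
  haveI := geometricallyConnected_f ξ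
  obtain ⟨_, _⟩ := (isFiniteOrderThickening_specRes A).1
  obtain ⟨t, rfl⟩ := (specRes A).surjective s
  obtain ⟨p, hp, -⟩ := Groth.L18.FP.exists_fiberMap ξ.f ξ.isPullback t
  rw [eulerLE_eq ξ.f ((specRes A) t)]
  letI : Algebra ((spec A).residueField ((specRes A) t)) ((specPt k).residueField t) :=
    ((specRes A).residueFieldMap t).hom.toAlgebra
  haveI := isProper_fibre ξ.f ((specRes A) t)
  haveI := Groth.L21.RR.isNoetherian_of_proper (X := ξ.f.fiber ((specRes A) t)) ((spec A).residueField ((specRes A) t))
  have h := Groth.L21.RR.euler_pullback (k := (spec A).residueField ((specRes A) t)) (K := (specPt k).residueField t) p hp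
    (Groth.L16.CohClosedPush.isCoh_structure (X := ξ.f.fiber ((specRes A) t)))
  rw [Groth.L21.RR.euler_congr ((specPt k).residueField t) (Groth.L29.LocFree.pullbackUnitIso p),
    hg.euler_structure t] at h
  exact h.symm

end Groth.Agent.Elliptic
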