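import Groth.Agent.L26.Elliptic.FibrePoint
import Groth.Agent.L26.Elliptic.ZeroComap
import Groth.Agent.L26.Elliptic.ZeroTensor
import Groth.Agent.L26.AbDual.Classes
import Groth.Agent.L12.CurveFam.R1
import Groth.Agent.L17.BC.Bc0Apply
import Groth.Agent.L17.ProjFormula
import Groth.Agent.L20.DescLocus.Mate
import Groth.Agent.L21.Duality.EllipticPic
import Groth.Agent.L21.RR.Twist
import Groth.Agent.L21.Weierstrass.Main
import Groth.Agent.L21.Bundle.Lines
import Groth.Agent.L29.DCoh.RelTor
import Groth.Agent.L02.Quot.HilbQuot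
import Groth.Agent.L02.RelCartier.CurveRel
import Groth.Agent.L02.RelCartier.Main
import Groth.Agent.L02.Hilb.Base
import Groth.Agent.L03.SurfAdj.Tools
import Groth.Agent.L02.Canon.DescInvertible
import Groth.Agent.L07.PrinParts.GrBaseChange
import Groth.Agent.L21.RR.TwoPoints
import Groth.Agent.L21.RR.GenusOnePoint

/-!
# Fibrewise degree one modules on a family of genus one curves
-/

set_option autoImplicit false
set_option linter.style.haveILetI false
set_option backward.isDefEq.respectTransparency false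
set_option backward.isDefEq.respectTransparency.types false

universe u

open CategoryTheory CategoryTheory.Limits AlgebraicGeometry TopologicalSpace
open Groth.L18.Frame (IsFrame rs ro rs_self pull)
open Groth.L18.GenLoc (secOf)
open Groth.L00.Tensor (tensorMap tensorIso tensorUnitRight tensorUnitLeft tensorAssoc tensorComm)

noncomputable section

namespace Groth.Agent.Elliptic

variable {E S : Scheme.{u}} (f : E ⟶ S)

/-- The Euler characteristic of `L` on every fibre is `d`. -/
def FDeg (L : E.Modules) (d : ℤ) : Prop :=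
  ∀ s : S, @FGA.eulerCharLE (S.residueField s) _ (f.fiber s) (f.fiberOverSpecResidueField s)
    ((Scheme.Modules.pullback (f.fiberι s)).obj L) 1 = d

/-- The structure sheaves of the fibres have Euler characteristic zero. -/
def Genus1 : Prop :=
  ∀ s : S, @FGA.eulerCharLE (S.residueField s) _ (f.fiber s) (f.fiberOverSpecResidueField s)
    (Coh.structureModule (f.fiber s)) 1 = 0

/-- The fibre over the residue field. -/
@[reducible] def fibOver (s : S) : (f.fiber s).Over (Spec (CommRingCat.of (S.residueField s))) :=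
  ⟨f.fiberToSpecResidueField s⟩

attribute [local instance] fibOver

variable [IsProper f] [SmoothOfRelativeDimension 1 f] [GeometricallyConnected f]

omit [SmoothOfRelativeDimension 1 f] [GeometricallyConnected f] in
theorem isProper_fibre (s : S) : IsProper (f.fiber s ↘ Spec (CommRingCat.of (S.residueField s))) :=
  inferInstanceAs (IsProper (pullback.snd f _))

omit [IsProper f] [GeometricallyConnected f] in
theorem smooth_fibre (s : S) : Smooth (f.fiber s ↘ Spec (CommRingCat.of (S.residueField s))) :=
  haveI := Groth.L02.RelCartier.smoothOfRelativeDimension_fiber 1 f s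
  (SmoothOfRelativeDimension.smooth 1 (f.fiberToSpecResidueField s) : _)

theorem isIntegral_fibre (s : S) : IsIntegral (f.fiber s) := by
  haveI := isProper_fibre f s
  haveI := smooth_fibre f s
  let j : f.fiber s ⟶ Spec (S.residueField s) := f.fiberToSpecResidueField s
  haveI : GeometricallyConnected j := inferInstanceAs (GeometricallyConnected (pullback.snd f _))
  haveI : ConnectedSpace ↥(f.fiber s) := GeometricallyConnected.connectedSpace_of_subsingleton j
  haveI := Groth.L21.RR.isNoetherian_of_proper (X := f.fiber s) (S.residueField s)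
  exact Groth.L21.NormalTotal.isIntegral_of_connected fun x =>
    Groth.L21.Smooth.isDomain_stalk (f.fiber s ↘ Spec (CommRingCat.of (S.residueField s))) x

theorem dim_fibre (s : S) : topologicalKrullDim (f.fiber s) = 1 := by
  haveI := isIntegral_fibre f s
  haveI := Groth.L02.RelCartier.smoothOfRelativeDimension_fiber 1 f s
  exact Groth.L03.SurfAdj.dim_of_relDim (k := S.residueField s) (f.fiberToSpecResidueField s) 1

theorem h0_fibre (s : S) :
    Groth.L21.RR.h (S.residueField s) 0 (Coh.structureModule (f.fiber s)) = 1 := by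
  haveI := isProper_fibre f s
  haveI := smooth_fibre f s
  let j : f.fiber s ⟶ Spec (CommRingCat.of (S.residueField s)) := f.fiberToSpecResidueField s
  haveI : GeometricallyConnected j := inferInstanceAs (GeometricallyConnected (pullback.snd f _))
  haveI : Smooth j := smooth_fibre f s
  haveI : IsProper j := isProper_fibre f s
  haveI := Groth.Agent.AV.geometricallyReduced_of_smooth j
  haveI := isIntegral_fibre f s
  exact Groth.L08.Cube.finrank_HH_zero_structure j (Groth.L08.Cube.bijective_toGlobal_of_geometric j)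

theorem eulerLE_eq (s : S) (M : (f.fiber s).Modules) :
    @FGA.eulerCharLE (S.residueField s) _ (f.fiber s) (f.fiberOverSpecResidueField s) M 1 =
      Curv2.euler (S.residueField s) (f.fiber s) M := by
  haveI := isProper_fibre f s
  rw [Groth.L21.RR.euler_eq (S.residueField s) (dim_fibre f s).le, FGA.eulerCharLE, Finset.sum_range_succ,
    Finset.sum_range_one]
  simp only [pow_zero, pow_one, one_mul, neg_mul, Groth.L21.RR.h]
  ring

variable {f}

theorem Genus1.euler_structure (hg : Genus1 f) (s : S) :
    Curv2.euler (S.residueField s) (f.fiber s) (Coh.structureModule (f.fiber s)) = 0 :=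
  (eulerLE_eq f s _).symm.trans (hg s)

theorem Genus1.h1_structure (hg : Genus1 f) (s : S) :
    Groth.L21.RR.h (S.residueField s) 1 (Coh.structureModule (f.fiber s)) = 1 := by
  haveI := isProper_fibre f s
  have h := hg.euler_structure s
  rw [Groth.L21.RR.euler_eq (S.residueField s) (dim_fibre f s).le, h0_fibre f s] at h
  omega

theorem FDeg.deg_eq {L : E.Modules} {d : ℤ} (h : FDeg f L d) (hg : Genus1 f) (s : S) :
    Curv2.deg (S.residueField s) (f.fiber s) ((Scheme.Modules.pullback (f.fiberι s)).obj L) 1 = d := by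
  rw [Curv2.deg, hg.euler_structure s, mul_zero, sub_zero, ← eulerLE_eq f s]
  exact h s

theorem fdeg_of_deg (hg : Genus1 f) {L : E.Modules} {d : ℤ}
    (h : ∀ s, Curv2.deg (S.residueField s) (f.fiber s) ((Scheme.Modules.pullback (f.fiberι s)).obj L) 1 = d) :
    FDeg f L d := fun s => by
  rw [eulerLE_eq f s, ← h s, Curv2.deg, hg.euler_structure s, mul_zero, sub_zero]

theorem FDeg.congr {L L' : E.Modules} {d : ℤ} (h : FDeg f L d) (e : L ≅ L') : FDeg f L' d := fun s => by
  haveI := isProper_fibre f s
  rw [eulerLE_eq f s, ← Groth.L21.RR.euler_congr (S.residueField s) ((Scheme.Modules.pullback (f.fiberι s)).mapIso e),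
    ← eulerLE_eq f s]
  exact h s

theorem FDeg.unique [Nonempty S] {L : E.Modules} {d d' : ℤ} (h : FDeg f L d) (h' : FDeg f L d') : d = d' :=
  (h (Classical.arbitrary S)).symm.trans (h' _)

theorem fdeg_tensor (hg : Genus1 f) {A B : E.Modules} {a b : ℤ} (hA : PicF.IsInvertible A)
    (hB : PicF.IsInvertible B) (ha : FDeg f A a) (hb : FDeg f B b) : FDeg f (CohB1.tensorMod A B) (a + b) := by
  refine fdeg_of_deg hg fun s => ?_
  haveI := isProper_fibre f s
  haveI := isIntegral_fibre f s
  rw [← Groth.L21.RR.deg_congr (S.residueField s) (Groth.L29.DC.PullTensor.pullTensor (f.fiberι s) A B) 1,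
    Groth.L21.Duality.deg_tensor (dim_fibre f s) (Groth.L18.Ample.isInvertible_pullback _ hA)
      (Groth.L18.Ample.isInvertible_pullback _ hB), ha.deg_eq hg s, hb.deg_eq hg s]

omit [IsProper f] [SmoothOfRelativeDimension 1 f] [GeometricallyConnected f] in
/-- Modules from the base are trivial on the fibres. -/
theorem nonempty_fibre_base {M : S.Modules} (hM : PicF.IsInvertible M) (s : S) :
    Nonempty ((Scheme.Modules.pullback (f.fiberι s)).obj ((Scheme.Modules.pullback f).obj M) ≅
      Coh.structureModule (f.fiber s)) := by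
  haveI : Subsingleton ↥(Spec (S.residueField s)) := inferInstanceAs (Subsingleton (PrimeSpectrum (S.residueField s)))
  obtain ⟨e⟩ := (PicGrp.cl_eq_cl_iff _ _).1 (Groth.Agent.AbDualLib.eq_oneCl_of_subsingleton
    (c := PicF.cl ((Scheme.Modules.pullback (S.fromSpecResidueField s)).obj M))
    ⟨_, rfl, Groth.L18.Ample.isInvertible_pullback _ hM⟩)
  exact ⟨Groth.L20.DescLocus.sqIso f (S.fromSpecResidueField s) (f.fiberToSpecResidueField s) (f.fiberι s)
      (f.fiber_fac s) M ≪≫ (Scheme.Modules.pullback _).mapIso e ≪≫ Groth.L29.LocFree.pullbackUnitIso _⟩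

theorem fdeg_base (hg : Genus1 f) {M : S.Modules} (hM : PicF.IsInvertible M) :
    FDeg f ((Scheme.Modules.pullback f).obj M) 0 := fun s => by
  obtain ⟨e⟩ := nonempty_fibre_base (f := f) hM s
  haveI := isProper_fibre f s
  rw [eulerLE_eq f s, Groth.L21.RR.euler_congr (S.residueField s) e, hg.euler_structure s]

theorem h1_eq_zero (hg : Genus1 f) {L : E.Modules} (hL : PicF.IsInvertible L) (hd : FDeg f L 1) (s : S) :
    Subsingleton (CohIII.fiberH f L s 1) := by
  haveI := isProper_fibre f s
  haveI := isIntegral_fibre f s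
  refine Groth.L21.RR.subsingleton_h1_of_deg_gt (X := f.fiber s) (S.residueField s) (dim_fibre f s).le
    (h0_fibre f s) (Groth.L18.Ample.isInvertible_pullback (f.fiberι s) hL) ?_
  rw [hd.deg_eq hg s, hg.h1_structure s]
  omega

theorem fiberRank_zero (hg : Genus1 f) {L : E.Modules} (hL : PicF.IsInvertible L) (hd : FDeg f L 1) (s : S) :
    CohIII.fiberRank f L 0 s = 1 := by
  haveI := isProper_fibre f s
  haveI := h1_eq_zero hg hL hd s
  have h := (eulerLE_eq f s _).symm.trans (hd s)
  rw [Groth.L21.RR.euler_eq (S.residueField s) (dim_fibre f s).le,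
    Groth.L21.RR.h_eq_zero_of_subsingleton (S.residueField s) (n := 1)
      (M := (Scheme.Modules.pullback (f.fiberι s)).obj L) (h1_eq_zero hg hL hd s)] at h
  change Groth.L21.RR.h (S.residueField s) 0 ((Scheme.Modules.pullback (f.fiberι s)).obj L) = 1
  omega

theorem split_all (hg : Genus1 f) {L : E.Modules} [Coh.IsQCoh L] [HasInjectiveResolutions E.Modules]
    (hL : PicF.IsInvertible L) (hd : FDeg f L 1) :
    ∀ y ∈ (⊤ : S.Opens), ∃ (V : S.Opens) (hV : IsAffineOpen V) (l : Groth.L17.BC.Classes.FreeBC0 f L V),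
      y ∈ V ∧ ∀ y' (hy' : y' ∈ V), y' ∈ (⊤ : S.Opens) → l.free.Split hV 0 hy' := by
  haveI : Smooth f := SmoothOfRelativeDimension.smooth 1 f
  exact Groth.L17.BC.Classes.forall_split0_of_vanishing f L
    (Groth.L18.LFP.isFP_of_isFinLocFree _ (Groth.L16.Existence.isFinLocFree_of_isInvertible hL))
    (Groth.L29.DC.RelTor.isFlatOver_of_isFlat f (Groth.L21.RR.isFlat_of_isInvertible hL)) ⊤
    fun y _ => h1_eq_zero hg hL hd y

/-- The direct image of a fibrewise degree one invertible module is invertible. -/
theorem isInvertible_push (hg : Genus1 f) {L : E.Modules} (hL : PicF.IsInvertible L) (hd : FDeg f L 1) :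
    PicF.IsInvertible ((Scheme.Modules.pushforward f).obj L) := by
  haveI : Smooth f := SmoothOfRelativeDimension.smooth 1 f
  haveI := Groth.L17.PushQCoh.hasInjectiveResolutions E
  haveI : Coh.IsQCoh L := Groth.L21.Extend.isQCoh_of_isInvertible hL
  have hfp := Groth.L18.LFP.isFP_of_isFinLocFree _ (Groth.L16.Existence.isFinLocFree_of_isInvertible hL)
  have hfl := Groth.L29.DC.RelTor.isFlatOver_of_isFlat f (Groth.L21.RR.isFlat_of_isInvertible hL)
  obtain ⟨Δ⟩ := Groth.L17.BC.Classes.nonempty_derivedLES f
  refine Groth.L21.Bundle.isInvertible_of_rank fun y => ?_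
  obtain ⟨V, hV, l, hyV, hl⟩ := split_all hg hL hd y trivial
  obtain ⟨W, hyW, hW, -⟩ := l.exists_locFree hV Δ hyV (hl y hyV trivial)
  obtain ⟨U, n, hyU, ⟨i⟩⟩ := hW y hyW
  obtain ⟨_, ⟨V', hV', rfl⟩, hyV', hV'U⟩ := S.isBasis_affineOpens.exists_subset_of_mem_open hyU U.2
  obtain ⟨l'⟩ := Groth.L17.BC.Classes.nonempty_freeBC0 f L hV' hfp hfl
  have hn := l'.fiberRank_eq_of_restrict hV' hV'U i hyV' (l'.split_of_vanishing hV' hyV' (h1_eq_zero hg hL hd y))
  rw [fiberRank_zero hg hL hd y] at hn
  subst hn
  exact ⟨U, hyU, ⟨i⟩⟩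

omit [IsProper f] [SmoothOfRelativeDimension 1 f] [GeometricallyConnected f] in
/-- The pullback of a section. -/
theorem pullHom_eq {X Z : Scheme.{u}} (v : Z ⟶ X) {N : X.Modules} (φ : Coh.structureModule X ⟶ N) :
    Groth.L18.Ample.pullHom v φ =
      (Groth.L29.LocFree.pullbackUnitIso v).inv ≫ (Scheme.Modules.pullback v).map φ := by
  rw [← Groth.L18.GenLoc.homOfSection_secOf ((Groth.L29.LocFree.pullbackUnitIso v).inv ≫ (Scheme.Modules.pullback v).map φ)]
  refine congrArg (Groth.L16.homOfSection _) ?_
  let P := (Scheme.Modules.pullback v).obj (Coh.structureModule X)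
  have h1 : (Groth.L29.LocFree.pullbackUnitIso v).inv.app ⊤ (1 : Γ(Z, ⊤)) =
      pull v (Coh.structureModule X) ⊤ (1 : Γ(X, ⊤)) := by
    have h := (Groth.L02.Quot.HilbQ.pullbackUnitIso_pull v ⊤ (1 : Γ(X, ⊤))).trans (map_one (v.app ⊤).hom)
    refine Eq.trans (congrArg ((Groth.L29.LocFree.pullbackUnitIso v).inv.app ⊤) h.symm) ?_
    exact congr($((Groth.L29.LocFree.pullbackUnitIso v).hom_inv_id).app ⊤ (pull v (Coh.structureModule X) ⊤ (1 : Γ(X, ⊤))))
  refine (Groth.L18.Ample.map_pull v φ ⊤ (1 : Γ(X, ⊤))).symm.trans ?_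
  exact congrArg (((Scheme.Modules.pullback v).map φ).app ⊤) h1.symm

omit [SmoothOfRelativeDimension 1 f] [GeometricallyConnected f] in
theorem isClosedImmersion_section {P : S ⟶ E} (hP : P ≫ f = 𝟙 S) : IsClosedImmersion P := by
  haveI : IsClosedImmersion (P ≫ f) := by rw [hP]; infer_instance
  exact IsClosedImmersion.of_comp P f

theorem isInvertible_ker {P : S ⟶ E} (hP : P ≫ f = 𝟙 S) : PicF.IsInvertible (ClSub.idealMod P.ker) :=
  (Groth.Agent.L19.IdealInvertible.isEffCartier_iff P.ker).2 (Groth.L02.RelCartier.ker_section f P hP).1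

/-- The ideal of a section has degree minus one on every fibre. -/
theorem fdeg_ker (hg : Genus1 f) {P : S ⟶ E} (hP : P ≫ f = 𝟙 S) :
    FDeg f (ClSub.idealMod P.ker) (-1) := by
  refine fdeg_of_deg hg fun s => ?_
  haveI := isProper_fibre f s
  haveI := smooth_fibre f s
  haveI := isIntegral_fibre f s
  haveI := isClosedImmersion_section hP
  haveI : IsSeparated f := inferInstance
  let g := S.fromSpecResidueField s
  let x : Spec (CommRingCat.of (S.residueField s)) ⟶ f.fiber s :=
    pullback.lift (g ≫ P) (𝟙 _) (by rw [Category.assoc, hP, Category.comp_id, Category.id_comp])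
  have hx : x ≫ (f.fiber s ↘ Spec (CommRingCat.of (S.residueField s))) = 𝟙 _ := pullback.lift_snd _ _ _
  haveI : IsClosedImmersion x := isClosedImmersion_of_comp_eq_id _ _ hx
  haveI : Subsingleton ↥(Spec (CommRingCat.of (S.residueField s))) :=
    inferInstanceAs (Subsingleton (PrimeSpectrum (S.residueField s)))
  let p₀ : f.fiber s := x (IsLocalRing.closedPoint (S.residueField s))
  have hp : IsClosed ({p₀} : Set (f.fiber s)) := by
    have h1 := x.isClosedEmbedding.isClosedMap _ isClosed_univ
    convert h1 using 1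
    refine (Set.Subset.antisymm ?_ ?_).symm
    · rintro _ ⟨q, -, rfl⟩
      exact congrArg _ (Subsingleton.elim q _)
    · rintro _ rfl
      exact ⟨_, trivial, rfl⟩
  have hrat : Function.Surjective (Curv2.resMap (S.residueField s) (f.fiber s) p₀) := fun y => by
    obtain ⟨a, rfl⟩ := (f.fiber s).residue_surjective p₀ y
    obtain ⟨c, hc⟩ := Groth.L21.RR.isRat_of_section (S.residueField s) x hx (IsLocalRing.closedPoint _) a
    refine ⟨c, ?_⟩
    have h2 : IsLocalRing.residue ((f.fiber s).presheaf.stalk p₀)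
        (a - Groth.L21.RR.cstAt (S.residueField s) p₀ c) = 0 :=
      (IsLocalRing.residue_eq_zero_iff _).2 hc
    rw [map_sub, sub_eq_zero] at h2
    exact h2.symm
  have hc : P.ker.comap (f.fiberι s) = Scheme.IdealSheafData.vanishingIdeal ⟨{p₀}, hp⟩ :=
    (Groth.L02.Hilb.ker_section_comap (IsPullback.of_hasPullback f g) P hP x hx (pullback.lift_fst _ _ _)).trans
      (Groth.L21.RR.ker_eq_vanishingIdeal_point (S.residueField s) x hp fun q => congrArg x (Subsingleton.elim q _))
  obtain ⟨α, -, hα, -⟩ := Groth.L07.PrinParts.exists_idealMap (f.fiberι s) P.ker _ hc.symm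
  haveI := hα
  obtain ⟨hI, hdI⟩ := Groth.L21.Duality.deg_ptI (k := S.residueField s) (dim_fibre f s) hp
  haveI := Groth.L02.Canon.DescInvertible.isIso_of_epi_invertible α
    (Groth.L18.Ample.isInvertible_pullback _ (isInvertible_ker hP)) hI
  rw [Groth.L21.RR.deg_congr (S.residueField s) (asIso α) 1]
  refine hdI.trans ?_
  rw [Groth.L21.RR.finrank_residueField_of_surjective (S.residueField s) hrat]
  rfl

section Canonical

variable {N : E.Modules} (e : (Scheme.Modules.pushforward f).obj N ≅ Coh.structureModule S)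

variable (f) in
/-- The section corresponding to a trivialisation of the direct image. -/
def canSec : Coh.structureModule E ⟶ N :=
  (Groth.L29.LocFree.pullbackUnitIso f).inv ≫ (Scheme.Modules.pullback f).map e.inv ≫
    (Scheme.Modules.pullbackPushforwardAdjunction f).counit.app N

omit [IsProper f] [SmoothOfRelativeDimension 1 f] [GeometricallyConnected f] in
/-- A map from a module of the base factors through the canonical section. -/
theorem exists_factor {M : S.Modules} (ψ : (Scheme.Modules.pullback f).obj M ⟶ N) :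
    ∃ γ, ψ = γ ≫ canSec f e := by
  refine ⟨(Scheme.Modules.pullback f).map
    (((Scheme.Modules.pullbackPushforwardAdjunction f).homEquiv _ _) ψ ≫ e.hom) ≫
      (Groth.L29.LocFree.pullbackUnitIso f).hom, ?_⟩
  conv_lhs => rw [← ((Scheme.Modules.pullbackPushforwardAdjunction f).homEquiv _ _).symm_apply_apply ψ,
    Adjunction.homEquiv_counit]
  simp only [canSec, Category.assoc, Iso.hom_inv_id_assoc, Functor.map_comp]
  rw [← Functor.map_comp_assoc, ← Functor.map_comp_assoc, Category.assoc, e.hom_inv_id, Category.comp_id]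

/-- The canonical section is nonzero on every fibre. -/
theorem canSec_fibre_ne_zero (hg : Genus1 f) (hN : PicF.IsInvertible N) (hd : FDeg f N 1) (s : S) :
    Groth.L18.Ample.pullHom (f.fiberι s) (canSec f e) ≠ 0 := by
  haveI : Smooth f := SmoothOfRelativeDimension.smooth 1 f
  haveI := Groth.L17.PushQCoh.hasInjectiveResolutions E
  haveI : Coh.IsQCoh N := Groth.L21.Extend.isQCoh_of_isInvertible hN
  let g := S.fromSpecResidueField s
  haveI : IsIso (CohBC.bc0 f g (f.fiberToSpecResidueField s) (f.fiberι s) (f.fiber_fac s) N) :=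
    Groth.L17.BC.Classes.isIso_bc0 (f := f) (F := N) (U := ⊤) (IsPullback.of_hasPullback f g) (fun _ => trivial)
      (split_all hg hN hd)
  let q := f.fiberToSpecResidueField s
  let Ns := (Scheme.Modules.pullback (f.fiberι s)).obj N
  intro h0
  rw [pullHom_eq, canSec] at h0
  simp only [Functor.map_comp, ← Category.assoc] at h0
  have h1 : (Scheme.Modules.pullback (f.fiberι s)).map
      ((Scheme.Modules.pullbackPushforwardAdjunction f).counit.app N) = 0 := zero_of_epi_comp _ h0
  rw [Groth.L20.DescLocus.pullback_counit f g q (f.fiberι s) (f.fiber_fac s) N] at h1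
  rw [← Category.assoc] at h1
  have h2 : (Scheme.Modules.pullbackPushforwardAdjunction q).counit.app Ns = 0 := zero_of_epi_comp _ h1
  have h3 := (Scheme.Modules.pullbackPushforwardAdjunction q).right_triangle_components Ns
  rw [h2] at h3
  haveI := Functor.isRightAdjoint_of_iso (Iso.refl (Scheme.Modules.pushforward q))
  haveI : (Scheme.Modules.pushforward q).IsRightAdjoint :=
    (Scheme.Modules.pullbackPushforwardAdjunction q).isRightAdjoint
  rw [Functor.map_zero, comp_zero] at h3
  let j : (Scheme.Modules.pushforward q).obj Ns ≅ Coh.structureModule (Spec (S.residueField s)) :=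
    (asIso (CohBC.bc0 f g q (f.fiberι s) (f.fiber_fac s) N)).symm ≪≫ (Scheme.Modules.pullback g).mapIso e ≪≫
      Groth.L29.LocFree.pullbackUnitIso g
  have h4 : 𝟙 (Coh.structureModule (Spec (S.residueField s))) = 0 := by
    rw [← j.inv_hom_id, ← Category.id_comp j.hom]
    erw [← h3]
    simp
  have h5 := congr($(h4).app ⊤ (1 : Γ(Spec (S.residueField s), ⊤)))
  exact one_ne_zero (α := Γ(Spec (S.residueField s), ⊤)) h5

end Canonical

/-- Fibrewise degree one modules with trivial direct image have exactly one zero on each fibre. -/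
theorem exists_section_normalized (hg : Genus1 f) {N : E.Modules} (hN : PicF.IsInvertible N) (hd : FDeg f N 1)
    (e : (Scheme.Modules.pushforward f).obj N ≅ Coh.structureModule S) :
    ∃ R : S ⟶ E, R ≫ f = 𝟙 S ∧ R.ker = PicF2.zeroScheme N (canSec f e) ∧
      BlowUp.IsEffCartierIdeal (PicF2.zeroScheme N (canSec f e)) := by
  haveI : Smooth f := SmoothOfRelativeDimension.smooth 1 f
  set φ := canSec f e
  set Z := PicF2.zeroScheme N φ
  have hfib : ∀ s, BlowUp.IsEffCartierIdeal (Z.comap (f.fiberι s)) ∧
      IsFinite ((Z.comap (f.fiberι s)).subschemeι ≫ f.fiberToSpecResidueField s) ∧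
      ∀ t, ((Z.comap (f.fiberι s)).subschemeι ≫ f.fiberToSpecResidueField s).finrank t = 1 := by
    intro s
    haveI := isProper_fibre f s
    haveI := smooth_fibre f s
    haveI := isIntegral_fibre f s
    rw [zeroScheme_comap (f.fiberι s) hN φ]
    exact finrank_zeroScheme_eq_one (S.residueField s) (dim_fibre f s)
      (Groth.L18.Ample.isInvertible_pullback _ hN) (hd.deg_eq hg s) (canSec_fibre_ne_zero e hg hN hd s)
  have hlp : Curv2.IsLocPrincipal Z := fun x _ => by
    obtain ⟨U, t, hxU, -, ht⟩ := Groth.L21.Mero.exists_frame_affine hN x (O := ⊤) trivial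
    obtain ⟨a, ha⟩ := ht.exists_coeff le_rfl (rs N (le_top : U.1 ≤ ⊤) (secOf φ))
    rw [rs_self] at ha
    exact ⟨U, hxU, a, Groth.L21.Mero.zeroScheme_ideal_frame hN φ U ht ha⟩
  obtain ⟨heff, hflat⟩ := Groth.L02.RelCartier.main_locPrincipal f Z hlp fun s => (hfib s).1
  haveI := hflat
  haveI := Groth.L02.RelCartier.lqf_of_eff_rel f Z heff
  haveI := Groth.L02.RelCartier.lfp_of_eff_rel f Z heff
  haveI : IsFinite (Z.subschemeι ≫ f) := IsFinite.of_isProper_of_locallyQuasiFinite _
  haveI : IsIso (Z.subschemeι ≫ f) := by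
    rw [Scheme.Hom.isIso_iff_finrank_eq]
    funext s
    have sq := Groth.L02.RelCartier.isPullback_comap_subscheme f Z s
    have h := (hfib s).2.2 (IsLocalRing.closedPoint (S.residueField s))
    rw [Scheme.Hom.finrank_of_isPullback _ _ _ _ sq] at h
    rw [Scheme.fromSpecResidueField_apply] at h
    exact h
  refine ⟨inv (Z.subschemeι ≫ f) ≫ Z.subschemeι, by rw [Category.assoc, IsIso.inv_hom_id], ?_, heff⟩
  rw [Scheme.Hom.ker_comp_of_isIso, Scheme.IdealSheafData.ker_subschemeι]

/-- A fibrewise degree one invertible module is, up to the base, the ideal inverse of exactly one section. -/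
theorem existsUnique_section (hg : Genus1 f) {L : E.Modules} (hL : PicF.IsInvertible L) (hd : FDeg f L 1) :
    ∃! R : S ⟶ E, R ≫ f = 𝟙 S ∧ ∃ M : S.Modules, PicF.IsInvertible M ∧
      Nonempty (CohB1.tensorMod L (ClSub.idealMod R.ker) ≅ (Scheme.Modules.pullback f).obj M) := by
  set M := (Scheme.Modules.pushforward f).obj L
  have hM : PicF.IsInvertible M := isInvertible_push hg hL hd
  obtain ⟨M', hM', ⟨eM⟩⟩ := Groth.L08.Cube.exists_inverse hM
  set pM' := (Scheme.Modules.pullback f).obj M'
  set N := CohB1.tensorMod pM' L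
  have hN : PicF.IsInvertible N :=
    Groth.L18.GenLoc.isInvertible_tensor (Groth.L18.Ample.isInvertible_pullback f hM') hL
  have hdN : FDeg f N 1 := by
    have := fdeg_tensor hg (Groth.L18.Ample.isInvertible_pullback f hM') hL (fdeg_base hg hM') hd
    rwa [zero_add] at this
  let e : (Scheme.Modules.pushforward f).obj N ≅ Coh.structureModule S :=
    ((Groth.L17.ProjFormula.projIso f M' (Groth.L16.Existence.isFinLocFree_of_isInvertible hM')).app L).symm ≪≫
      tensorComm M' M ≪≫ eM
  obtain ⟨R, hR, hker, heff⟩ := exists_section_normalized hg hN hdN e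
  refine ⟨R, ⟨hR, M, hM, ?_⟩, fun P ⟨hP, M₂, hM₂, ⟨i⟩⟩ => ?_⟩
  · rw [hker]
    obtain ⟨j⟩ := nonempty_tensor_zeroScheme hN (canSec f e) heff
    exact ⟨(tensorUnitLeft _).symm ≪≫
      tensorIso ((Groth.L29.LocFree.pullbackUnitIso f).symm ≪≫ (Scheme.Modules.pullback f).mapIso eM.symm ≪≫
        (Groth.L29.DC.PullTensor.pullTensor f M M').symm) (Iso.refl _) ≪≫
      tensorAssoc _ _ _ ≪≫
      tensorIso (Iso.refl _) ((tensorAssoc pM' L _).symm ≪≫ tensorComm _ _ ≪≫ j) ≪≫ tensorUnitRight _⟩
  · let θ : CohB1.tensorMod N (ClSub.idealMod P.ker) ⟶ N :=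
      tensorMap (𝟙 N) (ClSub.idealModι P.ker) ≫ (tensorUnitRight N).hom
    let i' : CohB1.tensorMod N (ClSub.idealMod P.ker) ≅ (Scheme.Modules.pullback f).obj (CohB1.tensorMod M' M₂) :=
      tensorAssoc pM' L _ ≪≫ tensorIso (Iso.refl _) i ≪≫ Groth.L29.DC.PullTensor.pullTensor f M' M₂
    obtain ⟨γ, hγ⟩ := exists_factor e (i'.inv ≫ θ)
    have hle := le_zeroScheme_of_factor hN (canSec f e) P.ker (i'.hom ≫ γ)
      (by rw [Category.assoc, ← hγ, Iso.hom_inv_id_assoc])
    haveI := isClosedImmersion_section hP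
    exact Groth.L02.Hilb.section_eq_of_ker_le P R hP hR (hle.trans hker.ge)

end Groth.Agent.Elliptic
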