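import Groth.Agent.L08.AbSchMul
import Groth.Agent.L26.AV.SmoothField
import Mathlib.GroupTheory.OrderOfElement

/-!
# Points of exact order in an abelian scheme
-/

set_option autoImplicit false
set_option linter.style.haveILetI false
set_option backward.isDefEq.respectTransparency false
set_option backward.isDefEq.respectTransparency.types false

universe u

open CategoryTheory CategoryTheory.Limits MonoidalCategory CartesianMonoidalCategory MonObj GrpObj AlgebraicGeometry
open TopologicalSpace

noncomputable section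

namespace Groth.Agent.Elliptic.ExactOrder

variable {S : Scheme.{u}} (E : Over S) [GrpObj E] (N : ℕ)

/-- The kernel of the multiplication by `N`. -/
def kerObj : Over S := Over.mk (pullback.snd (𝟙 E ^ N).left (η[E]).left)

theorem kerPt_w : pullback.fst (𝟙 E ^ N).left (η[E]).left ≫ E.hom = (kerObj E N).hom := by
  show _ = pullback.snd (𝟙 E ^ N).left (η[E]).left
  rw [← Over.w (𝟙 E ^ N), ← Category.assoc, pullback.condition, Category.assoc, Over.w]
  exact Category.comp_id _

/-- The universal point killed by `N`. -/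
def kerPt : kerObj E N ⟶ E := Over.homMk (pullback.fst (𝟙 E ^ N).left (η[E]).left) (kerPt_w E N)

theorem toUnit_eta_left {T : Over S} : (1 : T ⟶ E).left = T.hom ≫ (η[E]).left := by
  rw [Hom.one_def, Over.comp_left, Over.toUnit_left]

theorem pow_comp {T : Over S} (x : T ⟶ E) (m : ℕ) : x ≫ (𝟙 E ^ m) = x ^ m := by
  rw [MonObj.comp_pow, Category.comp_id]

theorem kerPt_pow : kerPt E N ^ N = 1 := by
  rw [← pow_comp]
  apply Over.OverMorphism.ext
  rw [toUnit_eta_left]
  exact pullback.condition

theorem exists_lift {T : Over S} (Q : T ⟶ E) (hQ : Q ^ N = 1) : ∃ v : T ⟶ kerObj E N, v ≫ kerPt E N = Q := by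
  rw [← pow_comp] at hQ
  have h : Q.left ≫ (𝟙 E ^ N).left = T.hom ≫ (η[E]).left := by
    rw [← toUnit_eta_left, ← hQ]
    rfl
  exact ⟨Over.homMk (pullback.lift Q.left T.hom h) (pullback.lift_snd _ _ _),
    Over.OverMorphism.ext (pullback.lift_fst _ _ _)⟩

variable [IsSeparated E.hom]

instance : Mono (η[E]).left := by
  haveI : IsSplitMono (η[E]).left := IsSplitMono.mk' ⟨E.hom, Over.w η[E]⟩
  infer_instance

theorem lift_unique {T : Over S} {v w : T ⟶ kerObj E N} (h : v ≫ kerPt E N = w ≫ kerPt E N) : v = w := by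
  apply Over.OverMorphism.ext
  exact (cancel_mono (pullback.fst (𝟙 E ^ N).left (η[E]).left)).1 (congrArg Over.Hom.left h)

/-- The representing object of points of exact order `N`. -/
theorem exists_rep [IsProper E.hom] [Smooth E.hom] [GeometricallyConnected E.hom] (hN : 1 ≤ N)
    (hNu : IsUnit (N : Γ(S, ⊤))) :
    ∃ (Z : Over S) (P : Z ⟶ E), IsFinite Z.hom ∧ Etale Z.hom ∧
      (P ^ N = 1 ∧ ∀ (Ω : Type u) [Field Ω] [IsAlgClosed Ω] (t : Spec (CommRingCat.of Ω) ⟶ Z.left),
        orderOf ((Over.homMk t rfl : Over.mk (t ≫ Z.hom) ⟶ Z) ≫ P) = N) ∧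
      ∀ (T : Over S) (Q : T ⟶ E), Q ^ N = 1 →
        (∀ (Ω : Type u) [Field Ω] [IsAlgClosed Ω] (t : Spec (CommRingCat.of Ω) ⟶ T.left),
          orderOf ((Over.homMk t rfl : Over.mk (t ≫ T.hom) ⟶ T) ≫ Q) = N) →
        ∃! v : T ⟶ Z, v ≫ P = Q := by
  haveI := Groth.Agent.AV.geometricallyReduced_of_smooth E.hom
  have hNz : IsUnit (((N : ℤ) : Γ(S, ⊤))) := by simpa using hNu
  have hp : (𝟙 E ^ N : E ⟶ E) = 𝟙 E ^ (N : ℤ) := (zpow_natCast _ _).symm
  haveI : Etale (𝟙 E ^ N).left := hp ▸ Groth.L08.AbSchMul.etale_pow E N hNz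
  haveI : IsFinite (𝟙 E ^ N).left := hp ▸ Groth.L08.AbSchMul.isFinite_pow E N hNz
  let K := kerObj E N
  let p := kerPt E N
  haveI : Etale K.hom := inferInstanceAs (Etale (pullback.snd (𝟙 E ^ N).left (η[E]).left))
  haveI : IsFinite K.hom := inferInstanceAs (IsFinite (pullback.snd (𝟙 E ^ N).left (η[E]).left))
  have hpd : ∀ d : ℕ, ∃ a : K ⟶ K, a ≫ p = p ^ d := fun d => exists_lift E N _ (by
    rw [← pow_mul, mul_comm, pow_mul, kerPt_pow, one_pow])
  choose a ha using hpd
  let z : K ⟶ K := a 0
  have hz : z ≫ p = 1 := by rw [ha, pow_zero]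
  let eq : ∀ d : ℕ, pullback (pullback.lift (a d).left z.left ((Over.w _).trans (Over.w _).symm))
      (pullback.diagonal K.hom) ⟶ K.left := fun d => pullback.fst _ _
  haveI : IsSeparated K.hom := inferInstance
  have hclopen : ∀ d, IsClopen (Set.range (eq d)) := fun d =>
    ⟨(eq d).isClosedMap.isClosed_range, (eq d).isOpenEmbedding.isOpen_range⟩
  let bad : Set K.left := ⋃ d ∈ N.properDivisors, Set.range (eq d)
  have hbad : IsClopen bad := isClopen_biUnion_finset fun d _ => hclopen d
  let U : K.left.Opens := ⟨badᶜ, hbad.compl.isOpen⟩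
  haveI : IsClosedImmersion U.ι := IsClosedImmersion.of_isPreimmersion _ (by
    rw [Scheme.Opens.range_ι]
    exact hbad.compl.isClosed)
  let Z : Over S := Over.mk (U.ι ≫ K.hom)
  let j : Z ⟶ K := Over.homMk U.ι rfl
  have key : ∀ (Ω : Type u) [Field Ω] (W : Over S) (_ : W.left = Spec (CommRingCat.of Ω)) (x : W ⟶ K)
      (d : ℕ), (x ≫ p) ^ d = 1 ↔ Set.range x.left ⊆ Set.range (eq d) := by
    intro Ω _ W _ x d
    rw [← MonObj.comp_pow, ← ha, ← Category.assoc, ← MonObj.comp_one (f := x) (M := E), ← hz, ← Category.assoc]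
    constructor
    · intro h
      have h' := congrArg Over.Hom.left (lift_unique E N h)
      rintro _ ⟨w, rfl⟩
      refine ⟨pullback.lift x.left (x.left ≫ (a d).left) ?_ w, ?_⟩
      · apply pullback.hom_ext
        · simp
        · simpa using h'.symm
      · rw [← Scheme.Hom.comp_apply, pullback.lift_fst]
    · intro h
      let l := IsOpenImmersion.lift (eq d) x.left h
      refine congrArg (· ≫ p) (Over.OverMorphism.ext ?_)
      show x.left ≫ (a d).left = x.left ≫ z.left
      rw [← IsOpenImmersion.lift_fac (eq d) x.left h]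
      have hc : pullback.fst (pullback.lift (a d).left z.left ((Over.w _).trans (Over.w _).symm))
          (pullback.diagonal K.hom) ≫ (a d).left = eq d ≫ z.left := by
        have c := pullback.condition (f := pullback.lift (a d).left z.left ((Over.w _).trans (Over.w _).symm))
          (g := pullback.diagonal K.hom)
        have c1 := congrArg (· ≫ pullback.fst K.hom K.hom) c
        have c2 := congrArg (· ≫ pullback.snd K.hom K.hom) c
        simp only [Category.assoc, pullback.lift_fst, pullback.lift_snd, pullback.diagonal_fst,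
          pullback.diagonal_snd, Category.comp_id] at c1 c2
        exact c1.trans c2.symm
      simp only [Category.assoc]
      exact congrArg (IsOpenImmersion.lift (eq d) x.left h ≫ ·) hc
  have hord : ∀ (Ω : Type u) [Field Ω] (W : Over S) (hW : W.left = Spec (CommRingCat.of Ω)) (x : W ⟶ K),
      orderOf (x ≫ p) = N ↔ Set.range x.left ⊆ (U : Set K.left) := by
    intro Ω _ W hW x
    haveI : Subsingleton ↥W.left := hW ▸ inferInstanceAs (Subsingleton (PrimeSpectrum Ω))
    have hpow : (x ≫ p) ^ N = 1 := by rw [← MonObj.comp_pow, kerPt_pow, MonObj.comp_one]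
    constructor
    · rintro h _ ⟨w, rfl⟩ hwb
      obtain ⟨d, hd, hwd⟩ := Set.mem_iUnion₂.1 hwb
      have h1 : (x ≫ p) ^ d = 1 := (key Ω W hW x d).2 (by
        rintro _ ⟨w', rfl⟩
        rwa [Subsingleton.elim w' w])
      rw [Nat.mem_properDivisors] at hd
      have h2 : N ∣ d := h ▸ orderOf_dvd_of_pow_eq_one h1
      rcases Nat.eq_zero_or_pos d with rfl | hd0
      · simp at hd
        omega
      · exact absurd (Nat.le_of_dvd hd0 h2) (by omega)
    · intro h
      have h1 : orderOf (x ≫ p) ∣ N := orderOf_dvd_of_pow_eq_one hpow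
      by_contra hne
      have hmem : orderOf (x ≫ p) ∈ N.properDivisors :=
        Nat.mem_properDivisors.2 ⟨h1, lt_of_le_of_ne (Nat.le_of_dvd (by omega) h1) hne⟩
      have h2 := (key Ω W hW x _).1 (pow_orderOf_eq_one _)
      obtain ⟨w⟩ : Nonempty ↥W.left := hW ▸ inferInstanceAs (Nonempty (PrimeSpectrum Ω))
      exact h ⟨w, rfl⟩ (Set.mem_iUnion₂.2 ⟨_, hmem, h2 ⟨w, rfl⟩⟩)
  refine ⟨Z, j ≫ p, inferInstanceAs (IsFinite (U.ι ≫ K.hom)), inferInstanceAs (Etale (U.ι ≫ K.hom)),
    ⟨by rw [← MonObj.comp_pow, kerPt_pow, MonObj.comp_one], fun Ω _ _ t => ?_⟩, fun T Q hQ hQt => ?_⟩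
  · rw [← Category.assoc, hord Ω _ rfl]
    rintro _ ⟨w, rfl⟩
    exact (t w).2
  · obtain ⟨v, rfl⟩ := exists_lift E N Q hQ
    have hv : Set.range v.left ⊆ (U : Set K.left) := by
      rintro _ ⟨x, rfl⟩
      let Ω := AlgebraicClosure (T.left.residueField x)
      let t : Spec (CommRingCat.of Ω) ⟶ T.left :=
        Spec.map (CommRingCat.ofHom (algebraMap (T.left.residueField x) Ω)) ≫ T.left.fromSpecResidueField x
      have h := hQt Ω t
      rw [← Category.assoc, hord Ω _ rfl] at h
      refine h ⟨IsLocalRing.closedPoint Ω, ?_⟩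
      show (t ≫ v.left) _ = _
      rw [Scheme.Hom.comp_apply]
      congr 1
      rw [Scheme.Hom.comp_apply]
      exact Scheme.fromSpecResidueField_apply x _
    let l := IsOpenImmersion.lift U.ι v.left (by rw [Scheme.Opens.range_ι]; exact hv)
    have hl : l ≫ U.ι = v.left := IsOpenImmersion.lift_fac _ _ _
    let v' : T ⟶ Z := Over.homMk l (by
      show l ≫ U.ι ≫ K.hom = T.hom
      rw [← Category.assoc, hl, Over.w])
    have hv' : v' ≫ j = v := Over.OverMorphism.ext hl
    refine ⟨v', by dsimp only; rw [← Category.assoc, hv'], fun w hw => ?_⟩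
    dsimp only at hw
    rw [← Category.assoc] at hw
    apply Over.OverMorphism.ext
    refine (cancel_mono U.ι).1 ?_
    exact congrArg Over.Hom.left ((lift_unique E N hw).trans hv'.symm)

end Groth.Agent.Elliptic.ExactOrder
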