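import Groth.Agent.L21.RR.PointDrop
import Groth.Agent.L21.Mero.Zero
import Groth.Agent.L21.Disc.Hurwitz
import Groth.Agent.L21.SmoothCurveDim
import Groth.Agent.L22.CurveDeg.Maps
import Groth.Agent.L02.RelCartier.DegAdd
import Groth.Agent.L02.RelCartier.Curve

/-!
# A section of a module of degree one vanishes at exactly one rational point
-/

set_option autoImplicit false
set_option linter.style.haveILetI false
set_option backward.isDefEq.respectTransparency false

universe u

open CategoryTheory CategoryTheory.Limits AlgebraicGeometry TopologicalSpace IsLocalRing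
open Groth.L18.Frame (IsFrame rs rs_self)
open Groth.L18.GenLoc (secOf)

noncomputable section

namespace Groth.Agent.Elliptic

open Groth.L21.RR (st one IsMinusPt)

variable (k : Type u) [Field k] {X : Scheme.{u}} [X.Over (Spec (CommRingCat.of k))]
  [IsProper (X ↘ Spec (CommRingCat.of k))] [Smooth (X ↘ Spec (CommRingCat.of k))] [IsIntegral X]

attribute [local instance] Curv2.resAlgebra

theorem finrank_zeroScheme_eq_one (hd : topologicalKrullDim X = 1) {N : X.Modules} (hN : PicF.IsInvertible N)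
    (hdeg : Curv2.deg k X N 1 = 1) {φ : Coh.structureModule X ⟶ N} (hφ : φ ≠ 0) :
    BlowUp.IsEffCartierIdeal (PicF2.zeroScheme N φ) ∧
      IsFinite ((PicF2.zeroScheme N φ).subschemeι ≫ (X ↘ Spec (CommRingCat.of k))) ∧
      ∀ s, ((PicF2.zeroScheme N φ).subschemeι ≫ (X ↘ Spec (CommRingCat.of k))).finrank s = 1 := by
  haveI := Groth.L21.RR.isNoetherian_of_proper (X := X) k
  set Z := PicF2.zeroScheme N φ
  have heff : BlowUp.IsEffCartierIdeal Z := Groth.L21.Mero.isEffCartier_zeroScheme hN hφ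
  haveI := Groth.L21.SmoothCurve.smoothOfRelativeDimension_one (X ↘ Spec (CommRingCat.of k)) hd
  haveI := Groth.L02.RelCartier.lqf_of_eff (X ↘ Spec (CommRingCat.of k)) Z heff
  haveI hfin : IsFinite (Z.subschemeι ≫ (X ↘ Spec (CommRingCat.of k))) :=
    IsFinite.of_isProper_of_locallyQuasiFinite _
  refine ⟨heff, hfin, fun s => ?_⟩
  obtain ⟨P, hPs⟩ : ∃ P, ¬ Function.Surjective (st φ P) := by
    by_contra hall
    push Not at hall
    haveI : Epi φ := (Groth.L21.Mod.epi_iff_stalk_surjective φ).2 hall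
    haveI := Groth.L21.RR.mono_of_ne_zero hN hφ
    haveI : IsIso φ := isIso_of_mono_of_epi φ
    rw [← Groth.L21.RR.deg_congr k (asIso φ) 1, Groth.L22.CurveDeg.deg_structure] at hdeg
    omega
  have hP : IsClosed ({P} : Set X) := by
    by_contra hc
    exact hPs (Groth.L21.RR.surjective_st_of_not_closed hd.le hN hφ hc)
  obtain ⟨M, ι, hι, hM, hχ, -⟩ := Groth.L21.RR.exists_minus_point k hd hN hP
  obtain ⟨ψ, hψ⟩ := hι.exists_lift_section hN φ hPs
  have hψ0 : ψ ≠ 0 := fun h0 => hφ (by rw [← hψ, h0, zero_comp])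
  obtain ⟨h1, h2⟩ := Groth.L22.CurveDeg.deg_add k hd.le (Groth.L18.Ample.isInvertible_structureModule X) hM hψ0
  haveI := Groth.L21.Disc.finite_residueField_of_isClosed (X := X) k hP
  have hpos : 0 < Module.finrank k (X.residueField P) := Module.finrank_pos
  have hκ : Module.finrank k (X.residueField P) = 1 ∧ Groth.L21.RR.h k 0 (cokernel ψ) = 0 := by
    rw [Groth.L22.CurveDeg.deg_structure, Curv2.deg, hχ] at h1
    rw [Curv2.deg] at hdeg
    constructor <;> push_cast at h1 hdeg <;> omega
  haveI := h2 hκ.2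
  have hsurj : ∀ y : X, Function.Surjective (st ψ y) :=
    (Groth.L21.Mod.epi_iff_stalk_surjective ψ).1 inferInstance
  have hst : ∀ (y : X) (v : (Coh.structureModule X).presheaf.stalk y), st φ y v = st ι y (st ψ y v) := fun y v => by
    rw [← hψ, Groth.L21.RR.st_comp]
  have hne : ∀ y : X, y ≠ P → y ∉ (Z.support : Set X) := fun y hy => by
    rw [Groth.L22.ZeroScheme.support_zeroScheme hN, Set.mem_compl_iff, not_not, SetLike.mem_coe,
      Groth.L21.RR.mem_genLocus_iff hN φ y]
    intro v
    obtain ⟨w, hw⟩ := hι.surj y hy v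
    obtain ⟨a, ha⟩ := hsurj y w
    exact ⟨a, by rw [hst, ha, hw]⟩
  have hlen : Groth.L02.RelCartier.lenI Z P = 1 := by
    obtain ⟨U, e, hPU, -, he⟩ := Groth.L21.Mero.exists_frame_affine hN P (O := ⊤) trivial
    obtain ⟨a, ha⟩ := he.exists_coeff le_rfl (rs N (le_top : U.1 ≤ ⊤) (secOf φ))
    rw [rs_self] at ha
    have heP := Groth.L21.RR.bijective_germ_frame he hPU
    let eP := N.presheaf.germ U.1 P hPU e
    let aP := X.presheaf.germ U.1 P hPU a
    have h1' : st φ P (one X P) = aP • eP := by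
      rw [Groth.L21.RR.st_one_top, show φ.app ⊤ (Groth.L21.RR.oneSec X) = secOf φ from rfl,
        ← Groth.L20.ModStalk.germ_rs N (le_top : U.1 ≤ ⊤) hPU (secOf φ), ← ha, Groth.L20.ModStalk.germ_smul]
    have hma : aP ∈ maximalIdeal (X.presheaf.stalk P) := by
      refine (IsLocalRing.mem_maximalIdeal _).2 fun hu => hPs fun v => ?_
      obtain ⟨r, hr⟩ := heP.2 v
      refine ⟨(r * ↑hu.unit⁻¹) • one X P, ?_⟩
      rw [map_smul, h1', smul_smul, mul_assoc, IsUnit.val_inv_mul, mul_one]
      exact hr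
    have hspan : Ideal.span {aP} = maximalIdeal (X.presheaf.stalk P) := by
      refine le_antisymm ((Ideal.span_singleton_le_iff_mem _).2 hma) fun r hr => ?_
      obtain ⟨u, hu⟩ := (hι.range_iff (r • eP)).2 (Submodule.smul_mem_smul hr Submodule.mem_top)
      obtain ⟨w, rfl⟩ := hsurj P u
      obtain ⟨b, rfl⟩ := (Groth.L21.RR.bijective_smul_one P).2 w
      rw [← hst, map_smul, h1', smul_smul] at hu
      exact Ideal.mem_span_singleton'.2 ⟨b, heP.1 hu⟩
    rw [Groth.L02.RelCartier.lenI, Groth.L02.RelCartier.stI_eq Z U hPU,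
      Groth.L21.Mero.zeroScheme_ideal_frame hN φ U he ha, Ideal.map_span, Set.image_singleton]
    change Module.length _ (X.presheaf.stalk P ⧸ Ideal.span {aP}) = 1
    rw [hspan, Module.length_eq_one_iff]
    exact isSimpleModule_iff_isCoatom.2 (Ideal.isMaximal_def.1 (maximalIdeal.isMaximal _))
  rw [Groth.L02.RelCartier.finrank_eq_sum_amb (X ↘ Spec (CommRingCat.of k)) Z s]
  rw [finsum_eq_single _ P fun y hy => by rw [Groth.L02.RelCartier.lenI_eq_zero (hne y hy)]; simp]
  rw [hlen, ← Groth.L21.Disc.finrank_resAlgebra_eq k P, hκ.1]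
  rfl

end Groth.Agent.Elliptic
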