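import Groth.Agent.L02.SchDom.ClosedLocus
import Mathlib.CategoryTheory.Monoidal.Cartesian.Grp
import Mathlib.CategoryTheory.Monoidal.Cartesian.Over
import Mathlib.AlgebraicGeometry.Morphisms.Flat

/-!
# The locus where a finite flat subscheme of a group scheme is a subgroup
-/

set_option autoImplicit false
set_option linter.style.haveILetI false
set_option backward.isDefEq.respectTransparency false

universe u

open CategoryTheory CategoryTheory.Limits MonoidalCategory CartesianMonoidalCategory MonObj AlgebraicGeometry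

noncomputable section

namespace Groth.Agent.Elliptic.SubgroupLocus

variable {S : Scheme.{u}} {E : Over S} [GrpObj E] {D : Over S} (i : D ⟶ E)

/-- The points factoring through `D`. -/
def ptsSet (W : Over S) : Set (W ⟶ E) := {x | ∃ d : W.left ⟶ D.left, d ≫ i.left = x.left}

theorem mem_ptsSet_iff {W : Over S} (x : W ⟶ E) : x ∈ ptsSet i W ↔ ∃ v : W ⟶ D, v ≫ i = x := by
  constructor
  · rintro ⟨d, hd⟩
    refine ⟨Over.homMk d ?_, Over.OverMorphism.ext hd⟩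
    rw [← Over.w i, ← Category.assoc, hd]
    exact Over.w x
  · rintro ⟨v, rfl⟩
    exact ⟨v.left, rfl⟩

variable {P : Over S}

/-- A morphism to `E` factors through `D` after base change along `g`. -/
def Fac (ξ : P ⟶ E) {T : Scheme.{u}} (g : T ⟶ S) : Prop :=
  ∃ l, l ≫ i.left = pullback.fst P.hom g ≫ ξ.left

theorem fac_iff (ξ : P ⟶ E) {T : Scheme.{u}} (g : T ⟶ S) :
    Fac i ξ g ↔ ∀ (T' : Scheme.{u}) (a : T' ⟶ T) (v : Over.mk (a ≫ g) ⟶ P), v ≫ ξ ∈ ptsSet i _ := by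
  constructor
  · rintro ⟨l, hl⟩ T' a v
    refine ⟨pullback.lift v.left a (by rw [Over.w v]; rfl) ≫ l, ?_⟩
    rw [Category.assoc, hl, pullback.lift_fst_assoc]
    rfl
  · intro h
    exact h _ (pullback.snd P.hom g) (Over.homMk (pullback.fst P.hom g) pullback.condition)

/-- The closed locus of the base where `ξ` factors through `D`. -/
theorem exists_locus [IsClosedImmersion i.left] [IsFinite P.hom] [Flat P.hom]
    [LocallyOfFinitePresentation P.hom] (ξ : P ⟶ E) :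
    ∃ (Z : Scheme.{u}) (t : Z ⟶ S), IsClosedImmersion t ∧
      ∀ (T : Scheme.{u}) (g : T ⟶ S), (∃ g', g' ≫ t = g) ↔ Fac i ξ g := by
  obtain ⟨Z, t, ht, -, h⟩ := Groth.L02.SchDom.exists_factorLocus P.hom i.left ξ.left
  exact ⟨Z, t, ht, h⟩

/-- The closed subscheme over which `D` is a subgroup. -/
theorem exists_subgroupLocus [IsClosedImmersion i.left] [IsFinite D.hom] [Flat D.hom]
    [LocallyOfFinitePresentation D.hom] :
    ∃ 𝓩 : S.IdealSheafData, ∀ (T : Scheme.{u}) (g : T ⟶ S),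
      (∃ t : T ⟶ 𝓩.subscheme, t ≫ 𝓩.subschemeι = g) ↔
        ∀ (T' : Scheme.{u}) (a : T' ⟶ T), ∃ H : Subgroup (Over.mk (a ≫ g) ⟶ E),
          (H : Set (Over.mk (a ≫ g) ⟶ E)) = ptsSet i (Over.mk (a ≫ g)) := by
  haveI : IsFinite (D ⊗ D).hom := inferInstanceAs (IsFinite (pullback.fst D.hom D.hom ≫ D.hom))
  haveI : Flat (D ⊗ D).hom := inferInstanceAs (Flat (pullback.fst D.hom D.hom ≫ D.hom))
  haveI : LocallyOfFinitePresentation (D ⊗ D).hom :=
    inferInstanceAs (LocallyOfFinitePresentation (pullback.fst D.hom D.hom ≫ D.hom))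
  haveI : IsFinite (𝟙_ (Over S)).hom := inferInstanceAs (IsFinite (𝟙 S))
  haveI : Flat (𝟙_ (Over S)).hom := inferInstanceAs (Flat (𝟙 S))
  haveI : LocallyOfFinitePresentation (𝟙_ (Over S)).hom := inferInstanceAs (LocallyOfFinitePresentation (𝟙 S))
  obtain ⟨Z₁, t₁, ht₁, h₁⟩ := exists_locus i (1 : 𝟙_ (Over S) ⟶ E)
  obtain ⟨Z₂, t₂, ht₂, h₂⟩ := exists_locus i (i⁻¹ : D ⟶ E)
  obtain ⟨Z₃, t₃, ht₃, h₃⟩ := exists_locus i ((fst D D ≫ i) * (snd D D ≫ i) : D ⊗ D ⟶ E)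
  let t₁₂ := pullback.fst t₁ t₂ ≫ t₁
  haveI : IsClosedImmersion t₁₂ := inferInstance
  let t := pullback.fst t₁₂ t₃ ≫ t₁₂
  haveI : IsClosedImmersion t := inferInstance
  refine ⟨t.ker, fun T g => ?_⟩
  rw [Groth.L02.SchDom.exists_factor_iff_ker_le, Scheme.IdealSheafData.ker_subschemeι,
    ← Groth.L02.SchDom.exists_factor_iff_ker_le t g]
  have hpb : (∃ g', g' ≫ t = g) ↔ Fac i (1 : 𝟙_ (Over S) ⟶ E) g ∧ Fac i (i⁻¹ : D ⟶ E) g ∧
      Fac i ((fst D D ≫ i) * (snd D D ≫ i) : D ⊗ D ⟶ E) g := by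
    rw [← h₁, ← h₂, ← h₃]
    constructor
    · rintro ⟨g', rfl⟩
      refine ⟨⟨g' ≫ pullback.fst t₁₂ t₃ ≫ pullback.fst t₁ t₂, by simp [t, t₁₂]⟩,
        ⟨g' ≫ pullback.fst t₁₂ t₃ ≫ pullback.snd t₁ t₂, by simp only [t, t₁₂, Category.assoc]; exact congrArg (g' ≫ pullback.fst t₁₂ t₃ ≫ ·) pullback.condition.symm⟩,
        ⟨g' ≫ pullback.snd t₁₂ t₃, (Category.assoc _ _ _).trans (congrArg (g' ≫ ·) pullback.condition.symm)⟩⟩
    · rintro ⟨⟨a, ha⟩, ⟨b, hb⟩, ⟨c, hc⟩⟩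
      exact ⟨pullback.lift (pullback.lift a b (ha.trans hb.symm)) c
        (by rw [show t₁₂ = pullback.fst t₁ t₂ ≫ t₁ from rfl, pullback.lift_fst_assoc, ha, hc]),
        by simp [t, t₁₂, ha]⟩
  rw [hpb, fac_iff, fac_iff, fac_iff]
  constructor
  · rintro ⟨hone, hinv, hmul⟩ T' a
    refine ⟨{ carrier := ptsSet i _, one_mem' := ?_, mul_mem' := ?_, inv_mem' := ?_ }, rfl⟩
    · intro x y hx hy
      obtain ⟨u, rfl⟩ := (mem_ptsSet_iff i x).1 hx
      obtain ⟨v, rfl⟩ := (mem_ptsSet_iff i y).1 hy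
      have := hmul T' a (lift u v)
      rwa [MonObj.comp_mul, lift_fst_assoc, lift_snd_assoc] at this
    · have := hone T' a (toUnit _)
      rwa [MonObj.comp_one] at this
    · intro x hx
      obtain ⟨u, rfl⟩ := (mem_ptsSet_iff i x).1 hx
      have := hinv T' a u
      rwa [GrpObj.comp_inv] at this
  · intro h
    refine ⟨fun T' a v => ?_, fun T' a v => ?_, fun T' a v => ?_⟩ <;> obtain ⟨H, hH⟩ := h T' a
    · rw [MonObj.comp_one, ← hH]
      exact H.one_mem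
    · rw [GrpObj.comp_inv, ← hH]
      exact H.inv_mem (by rw [← SetLike.mem_coe, hH]; exact ⟨v.left, rfl⟩)
    · rw [MonObj.comp_mul, ← hH]
      exact H.mul_mem (by rw [← SetLike.mem_coe, hH]; exact ⟨(v ≫ fst D D).left, rfl⟩)
        (by rw [← SetLike.mem_coe, hH]; exact ⟨(v ≫ snd D D).left, rfl⟩)

end Groth.Agent.Elliptic.SubgroupLocus
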